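import Cfsg.Agent.Lib.Helper28.L37WT.Levels

set_option autoImplicit false
set_option maxRecDepth 100000
set_option linter.all false

namespace Cfsg.Agent.Helper28.L37WT

open Cfsg.Agent.Helper28
open Cfsg.Agent.Helper28.L37W (Gen)

theorem ent_chk_d : allPts (fun p => orB (isSeed_d p) (chkEntry rels S fwd inv o lvl plet idx beqPt leq Gen.d (ce_d p) p)) = true := by
  decide +kernel

end Cfsg.Agent.Helper28.L37WT
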