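import Cfsg.Agent.Lib.Helper28.L37WT.Model

set_option autoImplicit false
set_option maxRecDepth 100000
set_option linter.all false

namespace Cfsg.Agent.Helper28.L37WT

open Cfsg.Agent.Helper28
open Cfsg.Agent.Helper28.L37W (Gen)

noncomputable section

abbrev cl_at : Gen × Bool := (Gen.a, true)
abbrev cl_af : Gen × Bool := (Gen.a, false)
abbrev cl_bt : Gen × Bool := (Gen.b, true)
abbrev cl_bf : Gen × Bool := (Gen.b, false)
abbrev cl_ct : Gen × Bool := (Gen.c, true)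
abbrev cl_cf : Gen × Bool := (Gen.c, false)
abbrev cl_dt : Gen × Bool := (Gen.d, true)
abbrev cl_df : Gen × Bool := (Gen.d, false)
abbrev cl_et : Gen × Bool := (Gen.e, true)
abbrev cl_ef : Gen × Bool := (Gen.e, false)
abbrev cl_ft : Gen × Bool := (Gen.f, true)
abbrev cl_ff : Gen × Bool := (Gen.f, false)
theorem relmem_0 : FreeGroup.mk relW_0 ∈ rels :=
  Or.inl ⟨Gen.a, by decide, Gen.a, by decide, rfl⟩
theorem relone_0 : wG rels relW_0 = 1 := wG_one_of_mem rels _ relmem_0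
theorem relmem_1 : FreeGroup.mk relW_1 ∈ rels :=
  Or.inl ⟨Gen.a, by decide, Gen.b, by decide, rfl⟩
theorem relone_1 : wG rels relW_1 = 1 := wG_one_of_mem rels _ relmem_1
theorem relmem_2 : FreeGroup.mk relW_2 ∈ rels :=
  Or.inl ⟨Gen.a, by decide, Gen.c, by decide, rfl⟩
theorem relone_2 : wG rels relW_2 = 1 := wG_one_of_mem rels _ relmem_2
theorem relmem_3 : FreeGroup.mk relW_3 ∈ rels :=
  Or.inl ⟨Gen.a, by decide, Gen.e, by decide, rfl⟩
theorem relone_3 : wG rels relW_3 = 1 := wG_one_of_mem rels _ relmem_3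
theorem relmem_4 : FreeGroup.mk relW_4 ∈ rels :=
  Or.inl ⟨Gen.a, by decide, Gen.f, by decide, rfl⟩
theorem relone_4 : wG rels relW_4 = 1 := wG_one_of_mem rels _ relmem_4
theorem relmem_5 : FreeGroup.mk relW_5 ∈ rels :=
  Or.inl ⟨Gen.b, by decide, Gen.b, by decide, rfl⟩
theorem relone_5 : wG rels relW_5 = 1 := wG_one_of_mem rels _ relmem_5
theorem relmem_6 : FreeGroup.mk relW_6 ∈ rels :=
  Or.inl ⟨Gen.b, by decide, Gen.c, by decide, rfl⟩
theorem relone_6 : wG rels relW_6 = 1 := wG_one_of_mem rels _ relmem_6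
theorem relmem_7 : FreeGroup.mk relW_7 ∈ rels :=
  Or.inl ⟨Gen.b, by decide, Gen.e, by decide, rfl⟩
theorem relone_7 : wG rels relW_7 = 1 := wG_one_of_mem rels _ relmem_7
theorem relmem_8 : FreeGroup.mk relW_8 ∈ rels :=
  Or.inl ⟨Gen.b, by decide, Gen.f, by decide, rfl⟩
theorem relone_8 : wG rels relW_8 = 1 := wG_one_of_mem rels _ relmem_8
theorem relmem_9 : FreeGroup.mk relW_9 ∈ rels :=
  Or.inl ⟨Gen.c, by decide, Gen.c, by decide, rfl⟩
theorem relone_9 : wG rels relW_9 = 1 := wG_one_of_mem rels _ relmem_9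
theorem relmem_10 : FreeGroup.mk relW_10 ∈ rels :=
  Or.inl ⟨Gen.c, by decide, Gen.e, by decide, rfl⟩
theorem relone_10 : wG rels relW_10 = 1 := wG_one_of_mem rels _ relmem_10
theorem relmem_11 : FreeGroup.mk relW_11 ∈ rels :=
  Or.inl ⟨Gen.c, by decide, Gen.f, by decide, rfl⟩
theorem relone_11 : wG rels relW_11 = 1 := wG_one_of_mem rels _ relmem_11
theorem relmem_12 : FreeGroup.mk relW_12 ∈ rels :=
  Or.inl ⟨Gen.e, by decide, Gen.e, by decide, rfl⟩
theorem relone_12 : wG rels relW_12 = 1 := wG_one_of_mem rels _ relmem_12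
theorem relmem_13 : FreeGroup.mk relW_13 ∈ rels :=
  Or.inl ⟨Gen.e, by decide, Gen.f, by decide, rfl⟩
theorem relone_13 : wG rels relW_13 = 1 := wG_one_of_mem rels _ relmem_13
theorem relmem_14 : FreeGroup.mk relW_14 ∈ rels :=
  Or.inl ⟨Gen.f, by decide, Gen.f, by decide, rfl⟩
theorem relone_14 : wG rels relW_14 = 1 := wG_one_of_mem rels _ relmem_14
theorem relmem_15 : FreeGroup.mk relW_15 ∈ rels :=
  Or.inr (show FreeGroup.mk relW_15 ∈ Cfsg.Agent.Helper28.L37W.extra from List.Mem.head _)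
theorem relone_15 : wG rels relW_15 = 1 := wG_one_of_mem rels _ relmem_15
theorem submem_0 : FreeGroup.mk subW_0 ∈ S := Set.mem_singleton _
theorem subH_0 : wG rels subW_0 ∈ subH rels S := wG_mem_of_mem rels S _ submem_0
def rc_0_0 : Cert rels S Gen.a := Cert.rel true [cl_at]
  (wG_of_rotate rels relW_0 [cl_at, cl_at] 0 (by decide +kernel) relone_0)
def rc_2_2 : Cert rels S Gen.a := Cert.rel true [cl_ct, cl_at, cl_ct]
  (wG_of_rotate rels relW_2 [cl_at, cl_ct, cl_at, cl_ct] 2 (by decide +kernel) relone_2)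
def rc_3_2 : Cert rels S Gen.a := Cert.rel true [cl_et, cl_at, cl_et]
  (wG_of_rotate rels relW_3 [cl_at, cl_et, cl_at, cl_et] 2 (by decide +kernel) relone_3)
def rc_4_2 : Cert rels S Gen.a := Cert.rel true [cl_ft, cl_at, cl_ft]
  (wG_of_rotate rels relW_4 [cl_at, cl_ft, cl_at, cl_ft] 2 (by decide +kernel) relone_4)
def rc_5_0 : Cert rels S Gen.b := Cert.rel true [cl_bt]
  (wG_of_rotate rels relW_5 [cl_bt, cl_bt] 0 (by decide +kernel) relone_5)
def rc_7_2 : Cert rels S Gen.b := Cert.rel true [cl_et, cl_bt, cl_et]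
  (wG_of_rotate rels relW_7 [cl_bt, cl_et, cl_bt, cl_et] 2 (by decide +kernel) relone_7)
def rc_8_2 : Cert rels S Gen.b := Cert.rel true [cl_ft, cl_bt, cl_ft]
  (wG_of_rotate rels relW_8 [cl_bt, cl_ft, cl_bt, cl_ft] 2 (by decide +kernel) relone_8)
def rc_1_3 : Cert rels S Gen.b := Cert.rel true [cl_at, cl_bt, cl_at, cl_bt, cl_at]
  (wG_of_rotate rels relW_1 [cl_bt, cl_at, cl_bt, cl_at, cl_bt, cl_at] 3 (by decide +kernel) relone_1)
def rc_9_0 : Cert rels S Gen.c := Cert.rel true [cl_ct]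
  (wG_of_rotate rels relW_9 [cl_ct, cl_ct] 0 (by decide +kernel) relone_9)
def rc_10_2 : Cert rels S Gen.c := Cert.rel true [cl_et, cl_ct, cl_et]
  (wG_of_rotate rels relW_10 [cl_ct, cl_et, cl_ct, cl_et] 2 (by decide +kernel) relone_10)
def rc_11_2 : Cert rels S Gen.c := Cert.rel true [cl_ft, cl_ct, cl_ft]
  (wG_of_rotate rels relW_11 [cl_ct, cl_ft, cl_ct, cl_ft] 2 (by decide +kernel) relone_11)
def rc_6_3 : Cert rels S Gen.c := Cert.rel true [cl_bt, cl_ct, cl_bt, cl_ct, cl_bt]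
  (wG_of_rotate rels relW_6 [cl_ct, cl_bt, cl_ct, cl_bt, cl_ct, cl_bt] 3 (by decide +kernel) relone_6)
def rc_2_1 : Cert rels S Gen.c := Cert.rel true [cl_at, cl_ct, cl_at]
  (wG_of_rotate rels relW_2 [cl_ct, cl_at, cl_ct, cl_at] 1 (by decide +kernel) relone_2)
def rc_15_0 : Cert rels S Gen.d := Cert.rel true []
  (wG_of_rotate rels relW_15 [cl_dt] 0 (by decide +kernel) relone_15)
def rc_12_0 : Cert rels S Gen.e := Cert.rel true [cl_et]
  (wG_of_rotate rels relW_12 [cl_et, cl_et] 0 (by decide +kernel) relone_12)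
def rc_14_0 : Cert rels S Gen.f := Cert.rel true [cl_ft]
  (wG_of_rotate rels relW_14 [cl_ft, cl_ft] 0 (by decide +kernel) relone_14)
def rc_13_3 : Cert rels S Gen.f := Cert.rel true [cl_et, cl_ft, cl_et, cl_ft, cl_et]
  (wG_of_rotate rels relW_13 [cl_ft, cl_et, cl_ft, cl_et, cl_ft, cl_et] 3 (by decide +kernel) relone_13)
def sc_0_0 : Cert rels S Gen.d := Cert.sub true [] []
  (sub_valid rels S [] cl_dt [] subH_0)

end

end Cfsg.Agent.Helper28.L37WT
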