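import Cfsg.Agent.Lib.Helper28.L37WT.Defs

set_option autoImplicit false
set_option maxRecDepth 100000
set_option linter.all false

namespace Cfsg.Agent.Helper28.L37WT

open Cfsg.Agent.Helper28
open Cfsg.Agent.Helper28.L37W (Gen)

noncomputable section

abbrev ka := Pt.mk
abbrev xa0 := D1.c0
abbrev xa1 := D1.c1
abbrev xa2 := D1.c2
abbrev xa3 := D1.c3
abbrev ya0 := D2.c0
abbrev ya1 := D2.c1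
abbrev ya2 := D2.c2
abbrev ya3 := D2.c3
abbrev ya4 := D2.c4
abbrev ya5 := D2.c5
abbrev za0 := D3.c0
abbrev za1 := D3.c1
abbrev za2 := D3.c2
abbrev za3 := D3.c3
abbrev za4 := D3.c4
abbrev za5 := D3.c5
def f_a_0 : D2 → D3 → Pt := @D2.rec (fun _ => D3 → Pt) (@D3.rec (fun _ => Pt) (ka xa0 ya0 za1) (ka xa0 ya0 za0) (ka xa0 ya1 za4) (ka xa0 ya1 za1) (ka xa0 ya1 za2) (ka xa0 ya1 za3)) (@D3.rec (fun _ => Pt) (ka xa0 ya3 za1) (ka xa0 ya0 za3) (ka xa0 ya0 za4) (ka xa0 ya0 za5) (ka xa0 ya0 za2) (ka xa0 ya4 za4)) (@D3.rec (fun _ => Pt) (ka xa0 ya4 za5) (ka xa0 ya5 za0) (ka xa1 ya0 za0) (ka xa0 ya4 za0) (ka xa0 ya4 za1) (ka xa0 ya4 za2)) (@D3.rec (fun _ => Pt) (ka xa0 ya4 za3) (ka xa0 ya1 za0) (ka xa1 ya1 za0) (ka xa1 ya1 za1) (ka xa1 ya1 za2) (ka xa1 ya2 za2)) (@D3.rec (fun _ =>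 Pt) (ka xa0 ya2 za3) (ka xa0 ya2 za4) (ka xa0 ya2 za5) (ka xa0 ya3 za0) (ka xa0 ya1 za5) (ka xa0 ya2 za0)) (@D3.rec (fun _ => Pt) (ka xa0 ya2 za1) (ka xa1 ya4 za1) (ka xa1 ya3 za3) (ka xa1 ya3 za4) (ka xa1 ya3 za5) (ka xa1 ya4 za0))
def f_a_1 : D2 → D3 → Pt := @D2.rec (fun _ => D3 → Pt) (@D3.rec (fun _ => Pt) (ka xa0 ya2 za2) (ka xa1 ya5 za1) (ka xa1 ya5 za2) (ka xa1 ya2 za5) (ka xa1 ya3 za0) (ka xa1 ya3 za1)) (@D3.rec (fun _ => Pt) (ka xa0 ya3 za2) (ka xa0 ya3 za3) (ka xa0 ya3 za4) (ka xa2 ya0 za5) (ka xa2 ya0 za1) (ka xa2 ya0 za2)) (@D3.rec (fun _ => Pt) (ka xa2 ya0 za3) (ka xa2 ya0 za4) (ka xa0 ya3 za5) (ka xa2 ya1 za5) (ka xa2 ya2 za0) (ka xa1 ya0 za3)) (@D3.rec (fun _ => Pt) (ka xa1 ya0 za4) (ka xa1 ya0 za5) (ka xa2 ya2 za4) (ka xa0 ya5 za2) (ka xa0 ya5 za3) (ka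 xa0 ya5 za4)) (@D3.rec (fun _ => Pt) (ka xa0 ya5 za5) (ka xa0 ya5 za1) (ka xa2 ya3 za4) (ka xa2 ya3 za5) (ka xa2 ya3 za1) (ka xa2 ya3 za2)) (@D3.rec (fun _ => Pt) (ka xa2 ya3 za3) (ka xa1 ya0 za1) (ka xa1 ya0 za2) (ka xa2 ya4 za3) (ka xa2 ya4 za4) (ka xa2 ya2 za3))
def f_a_2 : D2 → D3 → Pt := @D2.rec (fun _ => D3 → Pt) (@D3.rec (fun _ => Pt) (ka xa2 ya5 za0) (ka xa1 ya1 za4) (ka xa1 ya1 za5) (ka xa1 ya2 za0) (ka xa1 ya2 za1) (ka xa1 ya1 za3)) (@D3.rec (fun _ => Pt) (ka xa3 ya0 za0) (ka xa3 ya0 za1) (ka xa2 ya5 za3) (ka xa2 ya5 za4) (ka xa2 ya5 za5) (ka xa1 ya2 za3)) (@D3.rec (fun _ => Pt) (ka xa1 ya2 za4) (ka xa3 ya0 za5) (ka xa3 ya1 za0) (ka xa1 ya5 za5) (ka xa1 ya3 za2) (ka xa3 ya1 za2)) (@D3.rec (fun _ => Pt) (ka xa3 ya1 za3) (ka xa1 ya4 za4) (ka xa1 ya4 za5) (ka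 xa1 ya5 za0) (ka xa1 ya4 za2) (ka xa1 ya4 za3)) (@D3.rec (fun _ => Pt) (ka xa3 ya2 za1) (ka xa3 ya2 za2) (ka xa3 ya2 za0) (ka xa1 ya5 za3) (ka xa1 ya5 za4) (ka xa3 ya2 za4)) (@D3.rec (fun _ => Pt) (ka xa2 ya0 za0) (ka xa3 ya2 za5) (ka xa3 ya3 za0) (ka xa2 ya1 za2) (ka xa2 ya1 za3) (ka xa2 ya1 za4))
def f_a_3 : D2 → D3 → Pt := @D2.rec (fun _ => D3 → Pt) (@D3.rec (fun _ => Pt) (ka xa2 ya1 za0) (ka xa2 ya1 za1) (ka xa3 ya3 za4) (ka xa3 ya3 za5) (ka xa3 ya3 za3) (ka xa2 ya2 za1)) (@D3.rec (fun _ => Pt) (ka xa2 ya2 za2) (ka xa3 ya4 za1) (ka xa2 ya2 za5) (ka xa2 ya3 za0) (ka xa3 ya4 za2) (ka xa3 ya4 za3)) (@D3.rec (fun _ => Pt) (ka xa2 ya4 za2) (ka xa2 ya4 za0) (ka xa2 ya4 za1) (ka xa3 ya4 za5) (ka xa2 ya4 za5) (ka xa2 ya5 za1)) (@D3.rec (fun _ => Pt) (ka xa2 ya5 za2) (ka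 xa3 ya5 za0) (ka xa3 ya5 za1) (ka xa3 ya0 za4) (ka xa3 ya0 za2) (ka xa3 ya0 za3)) (@D3.rec (fun _ => Pt) (ka xa3 ya5 za3) (ka xa3 ya1 za1) (ka xa3 ya1 za4) (ka xa3 ya1 za5) (ka xa3 ya5 za4) (ka xa3 ya2 za3)) (@D3.rec (fun _ => Pt) (ka xa3 ya3 za1) (ka xa3 ya3 za2) (ka xa3 ya5 za5) (ka xa3 ya4 za0) (ka xa3 ya4 za4) (ka xa3 ya5 za2))
def f_a : Pt → Pt := @Pt.rec (fun _ => Pt) (@D1.rec (fun _ => D2 → D3 → Pt) f_a_0 f_a_1 f_a_2 f_a_3)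
def fi_a : Pt → Pt := f_a

theorem inv_chk_a : chkInv allPts beqPt f_a fi_a = true := by decide +kernel

end

end Cfsg.Agent.Helper28.L37WT
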