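import Cfsg.Agent.Lib.Helper28.L37WT.Defs

set_option autoImplicit false
set_option maxRecDepth 100000
set_option linter.all false

namespace Cfsg.Agent.Helper28.L37WT

open Cfsg.Agent.Helper28
open Cfsg.Agent.Helper28.L37W (Gen)

noncomputable section

abbrev kb := Pt.mk
abbrev xb0 := D1.c0
abbrev xb1 := D1.c1
abbrev xb2 := D1.c2
abbrev xb3 := D1.c3
abbrev yb0 := D2.c0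
abbrev yb1 := D2.c1
abbrev yb2 := D2.c2
abbrev yb3 := D2.c3
abbrev yb4 := D2.c4
abbrev yb5 := D2.c5
abbrev zb0 := D3.c0
abbrev zb1 := D3.c1
abbrev zb2 := D3.c2
abbrev zb3 := D3.c3
abbrev zb4 := D3.c4
abbrev zb5 := D3.c5
def f_b_0 : D2 → D3 → Pt := @D2.rec (fun _ => D3 → Pt) (@D3.rec (fun _ => Pt) (kb xb0 yb0 zb2) (kb xb0 yb1 zb0) (kb xb0 yb0 zb0) (kb xb0 yb2 zb2) (kb xb0 yb2 zb0) (kb xb0 yb2 zb1)) (@D3.rec (fun _ => Pt) (kb xb0 yb0 zb1) (kb xb0 yb3 zb5) (kb xb0 yb3 zb3) (kb xb0 yb3 zb4) (kb xb0 yb3 zb1) (kb xb0 yb5 zb1)) (@D3.rec (fun _ => Pt) (kb xb0 yb0 zb4) (kb xb0 yb0 zb5) (kb xb0 yb0 zb3) (kb xb1 yb0 zb1) (kb xb1 yb0 zb2) (kb xb0 yb5 zb4)) (@D3.rec (fun _ => Pt) (kb xb0 yb5 zb5) (kb xb0 yb1 zb4) (kb xb1 yb1 zb3) (kb xb0 yb1 zb2)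 (kb xb0 yb1 zb3) (kb xb0 yb1 zb1)) (@D3.rec (fun _ => Pt) (kb xb1 yb2 zb3) (kb xb1 yb2 zb4) (kb xb1 yb2 zb0) (kb xb1 yb2 zb1) (kb xb1 yb3 zb2) (kb xb1 yb1 zb1)) (@D3.rec (fun _ => Pt) (kb xb1 yb1 zb2) (kb xb0 yb1 zb5) (kb xb1 yb4 zb2) (kb xb1 yb4 zb3) (kb xb0 yb2 zb5) (kb xb0 yb3 zb0))
def f_b_1 : D2 → D3 → Pt := @D2.rec (fun _ => D3 → Pt) (@D3.rec (fun _ => Pt) (kb xb1 yb2 zb2) (kb xb0 yb2 zb3) (kb xb0 yb2 zb4) (kb xb1 yb5 zb3) (kb xb1 yb5 zb4) (kb xb1 yb5 zb0)) (@D3.rec (fun _ => Pt) (kb xb2 yb0 zb0) (kb xb0 yb4 zb5) (kb xb0 yb5 zb0) (kb xb0 yb3 zb2) (kb xb2 yb1 zb0) (kb xb2 yb1 zb1)) (@D3.rec (fun _ => Pt) (kb xb0 yb4 zb2) (kb xb0 yb4 zb3) (kb xb1 yb0 zb0) (kb xb0 yb4 zb0) (kb xb0 yb4 zb1) (kb xb2 yb2 zb1)) (@D3.rec (fun _ => Pt)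 (kb xb2 yb2 zb2) (kb xb2 yb1 zb4) (kb xb0 yb4 zb4) (kb xb2 yb2 zb5) (kb xb2 yb3 zb0) (kb xb2 yb0 zb3)) (@D3.rec (fun _ => Pt) (kb xb2 yb0 zb4) (kb xb2 yb2 zb4) (kb xb0 yb5 zb2) (kb xb0 yb5 zb3) (kb xb2 yb4 zb0) (kb xb2 yb4 zb1)) (@D3.rec (fun _ => Pt) (kb xb1 yb0 zb5) (kb xb2 yb1 zb5) (kb xb2 yb2 zb0) (kb xb1 yb0 zb3) (kb xb1 yb0 zb4) (kb xb2 yb4 zb5))
def f_b_2 : D2 → D3 → Pt := @D2.rec (fun _ => D3 → Pt) (@D3.rec (fun _ => Pt) (kb xb1 yb1 zb0) (kb xb2 yb5 zb1) (kb xb2 yb5 zb2) (kb xb1 yb3 zb5) (kb xb1 yb4 zb0) (kb xb2 yb5 zb0)) (@D3.rec (fun _ => Pt) (kb xb1 yb1 zb4) (kb xb1 yb1 zb5) (kb xb3 yb0 zb2) (kb xb3 yb0 zb3) (kb xb1 yb3 zb1) (kb xb1 yb5 zb1)) (@D3.rec (fun _ => Pt) (kb xb1 yb5 zb2) (kb xb1 yb2 zb5) (kb xb1 yb3 zb0) (kb xb3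 yb1 zb1) (kb xb1 yb4 zb1) (kb xb1 yb3 zb3)) (@D3.rec (fun _ => Pt) (kb xb1 yb3 zb4) (kb xb3 yb1 zb4) (kb xb3 yb1 zb5) (kb xb2 yb5 zb5) (kb xb3 yb1 zb2) (kb xb3 yb1 zb3)) (@D3.rec (fun _ => Pt) (kb xb1 yb4 zb4) (kb xb1 yb4 zb5) (kb xb3 yb2 zb3) (kb xb3 yb0 zb5) (kb xb3 yb1 zb0) (kb xb1 yb5 zb5)) (@D3.rec (fun _ => Pt) (kb xb2 yb0 zb5) (kb xb2 yb0 zb1) (kb xb2 yb0 zb2) (kb xb3 yb3 zb1) (kb xb3 yb3 zb2) (kb xb2 yb3 zb3))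
def f_b_3 : D2 → D3 → Pt := @D2.rec (fun _ => D3 → Pt) (@D3.rec (fun _ => Pt) (kb xb3 yb2 zb5) (kb xb3 yb3 zb0) (kb xb2 yb1 zb2) (kb xb2 yb1 zb3) (kb xb3 yb4 zb0) (kb xb2 yb4 zb3)) (@D3.rec (fun _ => Pt) (kb xb2 yb4 zb4) (kb xb2 yb2 zb3) (kb xb2 yb3 zb4) (kb xb2 yb3 zb5) (kb xb2 yb3 zb1) (kb xb2 yb3 zb2)) (@D3.rec (fun _ => Pt) (kb xb3 yb4 zb4) (kb xb3 yb4 zb2) (kb xb3 yb4 zb3) (kb xb2 yb4 zb2) (kb xb3 yb4 zb1) (kb xb3 yb0 zb0)) (@D3.rec (fun _ => Pt) (kb xb3 yb0 zb1) (kb xb2 yb5 zb3) (kb xb2 yb5 zb4) (kb xb3 yb5 zb2) (kb xb3 yb5 zb0) (kb xb3 yb5 zb1)) (@D3.rec (fun _ => Pt) (kb xb3 yb0 zb4) (kb xb3 yb2 zb4) (kb xb3 yb2 zb1) (kb xb3 yb2 zb2) (kb xb3 yb2 zb0) (kb xb3 yb5 zb4)) (@D3.rec (fun _ => Pt) (kb xb3 yb3 zb4) (kb xb3 yb3 zb5)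 (kb xb3 yb3 zb3) (kb xb3 yb5 zb5) (kb xb3 yb4 zb5) (kb xb3 yb5 zb3))
def f_b : Pt → Pt := @Pt.rec (fun _ => Pt) (@D1.rec (fun _ => D2 → D3 → Pt) f_b_0 f_b_1 f_b_2 f_b_3)
def fi_b : Pt → Pt := f_b

theorem inv_chk_b : chkInv allPts beqPt f_b fi_b = true := by decide +kernel

end

end Cfsg.Agent.Helper28.L37WT
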