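import Cfsg.Agent.Lib.Helper28.L37WT.Defs

set_option autoImplicit false
set_option maxRecDepth 100000
set_option linter.all false

namespace Cfsg.Agent.Helper28.L37WT

open Cfsg.Agent.Helper28
open Cfsg.Agent.Helper28.L37W (Gen)

noncomputable section

abbrev kc := Pt.mk
abbrev xc0 := D1.c0
abbrev xc1 := D1.c1
abbrev xc2 := D1.c2
abbrev xc3 := D1.c3
abbrev yc0 := D2.c0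
abbrev yc1 := D2.c1
abbrev yc2 := D2.c2
abbrev yc3 := D2.c3
abbrev yc4 := D2.c4
abbrev yc5 := D2.c5
abbrev zc0 := D3.c0
abbrev zc1 := D3.c1
abbrev zc2 := D3.c2
abbrev zc3 := D3.c3
abbrev zc4 := D3.c4
abbrev zc5 := D3.c5
def f_c_0 : D2 → D3 → Pt := @D2.rec (fun _ => D3 → Pt) (@D3.rec (fun _ => Pt) (kc xc0 yc0 zc3) (kc xc0 yc1 zc1) (kc xc0 yc1 zc5) (kc xc0 yc0 zc0) (kc xc0 yc2 zc3) (kc xc0 yc2 zc4)) (@D3.rec (fun _ => Pt) (kc xc0 yc3 zc2) (kc xc0 yc0 zc1) (kc xc0 yc4 zc0) (kc xc0 yc4 zc1) (kc xc0 yc4 zc4) (kc xc0 yc0 zc2)) (@D3.rec (fun _ => Pt) (kc xc0 yc5 zc2) (kc xc0 yc5 zc3) (kc xc0 yc5 zc1) (kc xc0 yc0 zc4) (kc xc0 yc0 zc5) (kc xc1 yc0 zc3)) (@D3.rec (fun _ => Pt) (kc xc1 yc0 zc4) (kc xc1 yc1 zc0) (kc xc0 yc1 zc0) (kc xc1 yc1 zc4)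 (kc xc1 yc1 zc5) (kc xc1 yc1 zc3)) (@D3.rec (fun _ => Pt) (kc xc0 yc1 zc2) (kc xc0 yc1 zc3) (kc xc1 yc2 zc5) (kc xc1 yc3 zc0) (kc xc0 yc1 zc4) (kc xc1 yc3 zc3)) (@D3.rec (fun _ => Pt) (kc xc1 yc3 zc4) (kc xc0 yc2 zc2) (kc xc0 yc2 zc0) (kc xc0 yc2 zc1) (kc xc1 yc4 zc4) (kc xc1 yc4 zc5))
def f_c_1 : D2 → D3 → Pt := @D2.rec (fun _ => D3 → Pt) (@D3.rec (fun _ => Pt) (kc xc1 yc4 zc1) (kc xc1 yc4 zc2) (kc xc1 yc4 zc3) (kc xc0 yc2 zc5) (kc xc0 yc3 zc0) (kc xc1 yc5 zc5)) (@D3.rec (fun _ => Pt) (kc xc0 yc3 zc1) (kc xc2 yc0 zc1) (kc xc2 yc0 zc2) (kc xc0 yc3 zc5) (kc xc0 yc3 zc3) (kc xc0 yc3 zc4)) (@D3.rec (fun _ => Pt) (kc xc2 yc1 zc2) (kc xc2 yc1 zc3) (kc xc2 yc0 zc5) (kc xc2 yc1 zc0) (kc xc2 yc1 zc1) (kc xc0 yc4 zc2)) (@D3.rec (fun _ => Pt)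 (kc xc0 yc4 zc3) (kc xc2 yc2 zc3) (kc xc2 yc0 zc0) (kc xc0 yc4 zc5) (kc xc0 yc5 zc0) (kc xc2 yc3 zc1)) (@D3.rec (fun _ => Pt) (kc xc2 yc3 zc2) (kc xc1 yc0 zc0) (kc xc1 yc0 zc1) (kc xc1 yc0 zc2) (kc xc0 yc5 zc4) (kc xc0 yc5 zc5)) (@D3.rec (fun _ => Pt) (kc xc2 yc4 zc2) (kc xc2 yc3 zc4) (kc xc2 yc3 zc5) (kc xc2 yc4 zc0) (kc xc2 yc4 zc1) (kc xc1 yc0 zc5))
def f_c_2 : D2 → D3 → Pt := @D2.rec (fun _ => D3 → Pt) (@D3.rec (fun _ => Pt) (kc xc1 yc3 zc2) (kc xc1 yc1 zc1) (kc xc1 yc1 zc2) (kc xc2 yc5 zc3) (kc xc2 yc5 zc4) (kc xc1 yc2 zc2)) (@D3.rec (fun _ => Pt) (kc xc1 yc2 zc3) (kc xc1 yc2 zc4) (kc xc1 yc2 zc0) (kc xc1 yc2 zc1) (kc xc3 yc0 zc4) (kc xc3 yc0 zc0)) (@D3.rec (fun _ => Pt) (kc xc3 yc0 zc1) (kc xc3 yc0 zc2) (kc xc3 yc0 zc3) (kc xc1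 yc3 zc1) (kc xc2 yc5 zc0) (kc xc2 yc5 zc1)) (@D3.rec (fun _ => Pt) (kc xc2 yc5 zc2) (kc xc1 yc3 zc5) (kc xc1 yc4 zc0) (kc xc3 yc2 zc0) (kc xc1 yc5 zc1) (kc xc1 yc5 zc2)) (@D3.rec (fun _ => Pt) (kc xc1 yc5 zc3) (kc xc1 yc5 zc4) (kc xc1 yc5 zc0) (kc xc3 yc2 zc1) (kc xc3 yc2 zc2) (kc xc3 yc2 zc3)) (@D3.rec (fun _ => Pt) (kc xc2 yc2 zc4) (kc xc2 yc2 zc5) (kc xc2 yc3 zc0) (kc xc2 yc0 zc3) (kc xc2 yc0 zc4) (kc xc3 yc3 zc3))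
def f_c_3 : D2 → D3 → Pt := @D2.rec (fun _ => D3 → Pt) (@D3.rec (fun _ => Pt) (kc xc2 yc1 zc5) (kc xc2 yc2 zc0) (kc xc2 yc2 zc1) (kc xc2 yc2 zc2) (kc xc2 yc1 zc4) (kc xc3 yc3 zc4)) (@D3.rec (fun _ => Pt) (kc xc3 yc3 zc5) (kc xc3 yc4 zc0) (kc xc3 yc2 zc5) (kc xc3 yc3 zc0) (kc xc3 yc3 zc1) (kc xc3 yc3 zc2)) (@D3.rec (fun _ => Pt) (kc xc2 yc3 zc3) (kc xc2 yc4 zc3) (kc xc2 yc4 zc4) (kc xc2 yc4 zc5) (kc xc3 yc4 zc5) (kc xc3 yc1 zc2)) (@D3.rec (fun _ => Pt) (kc xc3 yc1 zc3) (kc xc3 yc1 zc4) (kc xc3 yc1 zc5) (kc xc2 yc5 zc5) (kc xc3 yc0 zc5) (kc xc3 yc1 zc0)) (@D3.rec (fun _ => Pt) (kc xc3 yc1 zc1) (kc xc3 yc5 zc3) (kc xc3 yc5 zc0) (kc xc3 yc5 zc1) (kc xc3 yc5 zc2) (kc xc3 yc2 zc4)) (@D3.rec (fun _ => Pt) (kc xc3 yc4 zc2) (kc xc3 yc4 zc3)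 (kc xc3 yc4 zc4) (kc xc3 yc4 zc1) (kc xc3 yc5 zc5) (kc xc3 yc5 zc4))
def f_c : Pt → Pt := @Pt.rec (fun _ => Pt) (@D1.rec (fun _ => D2 → D3 → Pt) f_c_0 f_c_1 f_c_2 f_c_3)
def fi_c : Pt → Pt := f_c

theorem inv_chk_c : chkInv allPts beqPt f_c fi_c = true := by decide +kernel

end

end Cfsg.Agent.Helper28.L37WT
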