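import Cfsg.Agent.Lib.Helper28.L37WT.Defs

set_option autoImplicit false
set_option maxRecDepth 100000
set_option linter.all false

namespace Cfsg.Agent.Helper28.L37WT

open Cfsg.Agent.Helper28
open Cfsg.Agent.Helper28.L37W (Gen)

noncomputable section

abbrev kd := Pt.mk
abbrev xd0 := D1.c0
abbrev xd1 := D1.c1
abbrev xd2 := D1.c2
abbrev xd3 := D1.c3
abbrev yd0 := D2.c0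
abbrev yd1 := D2.c1
abbrev yd2 := D2.c2
abbrev yd3 := D2.c3
abbrev yd4 := D2.c4
abbrev yd5 := D2.c5
abbrev zd0 := D3.c0
abbrev zd1 := D3.c1
abbrev zd2 := D3.c2
abbrev zd3 := D3.c3
abbrev zd4 := D3.c4
abbrev zd5 := D3.c5
def f_d_0 : D2 → D3 → Pt := @D2.rec (fun _ => D3 → Pt) (@D3.rec (fun _ => Pt) (kd xd0 yd0 zd0) (kd xd0 yd0 zd1) (kd xd0 yd0 zd2) (kd xd0 yd0 zd3) (kd xd0 yd0 zd4) (kd xd0 yd0 zd5)) (@D3.rec (fun _ => Pt) (kd xd0 yd1 zd0) (kd xd0 yd1 zd1) (kd xd0 yd1 zd2) (kd xd0 yd1 zd3) (kd xd0 yd1 zd4) (kd xd0 yd1 zd5)) (@D3.rec (fun _ => Pt) (kd xd0 yd2 zd0) (kd xd0 yd2 zd1) (kd xd0 yd2 zd2) (kd xd0 yd2 zd3) (kd xd0 yd2 zd4) (kd xd0 yd2 zd5)) (@D3.rec (fun _ => Pt) (kd xd0 yd3 zd0) (kd xd0 yd3 zd1) (kd xd0 yd3 zd2)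 (kd xd0 yd3 zd3) (kd xd0 yd3 zd4) (kd xd0 yd3 zd5)) (@D3.rec (fun _ => Pt) (kd xd0 yd4 zd0) (kd xd0 yd4 zd1) (kd xd0 yd4 zd2) (kd xd0 yd4 zd3) (kd xd0 yd4 zd4) (kd xd0 yd4 zd5)) (@D3.rec (fun _ => Pt) (kd xd0 yd5 zd0) (kd xd0 yd5 zd1) (kd xd0 yd5 zd2) (kd xd0 yd5 zd3) (kd xd0 yd5 zd4) (kd xd0 yd5 zd5))
def f_d_1 : D2 → D3 → Pt := @D2.rec (fun _ => D3 → Pt) (@D3.rec (fun _ => Pt) (kd xd1 yd0 zd0) (kd xd1 yd0 zd1) (kd xd1 yd0 zd2) (kd xd1 yd0 zd3) (kd xd1 yd0 zd4) (kd xd1 yd0 zd5)) (@D3.rec (fun _ => Pt) (kd xd1 yd1 zd0) (kd xd1 yd1 zd1) (kd xd1 yd1 zd2) (kd xd1 yd1 zd3) (kd xd1 yd1 zd4) (kd xd1 yd1 zd5)) (@D3.rec (fun _ => Pt) (kd xd1 yd2 zd0) (kd xd1 yd2 zd1) (kd xd1 yd2 zd2) (kd xd1 yd2 zd3) (kd xd1 yd2 zd4) (kd xd1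 yd2 zd5)) (@D3.rec (fun _ => Pt) (kd xd1 yd3 zd0) (kd xd1 yd3 zd1) (kd xd1 yd3 zd2) (kd xd1 yd3 zd3) (kd xd1 yd3 zd4) (kd xd1 yd3 zd5)) (@D3.rec (fun _ => Pt) (kd xd1 yd4 zd0) (kd xd1 yd4 zd1) (kd xd1 yd4 zd2) (kd xd1 yd4 zd3) (kd xd1 yd4 zd4) (kd xd1 yd4 zd5)) (@D3.rec (fun _ => Pt) (kd xd1 yd5 zd0) (kd xd1 yd5 zd1) (kd xd1 yd5 zd2) (kd xd1 yd5 zd3) (kd xd1 yd5 zd4) (kd xd1 yd5 zd5))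
def f_d_2 : D2 → D3 → Pt := @D2.rec (fun _ => D3 → Pt) (@D3.rec (fun _ => Pt) (kd xd2 yd0 zd0) (kd xd2 yd0 zd1) (kd xd2 yd0 zd2) (kd xd2 yd0 zd3) (kd xd2 yd0 zd4) (kd xd2 yd0 zd5)) (@D3.rec (fun _ => Pt) (kd xd2 yd1 zd0) (kd xd2 yd1 zd1) (kd xd2 yd1 zd2) (kd xd2 yd1 zd3) (kd xd2 yd1 zd4) (kd xd2 yd1 zd5)) (@D3.rec (fun _ => Pt) (kd xd2 yd2 zd0) (kd xd2 yd2 zd1) (kd xd2 yd2 zd2) (kd xd2 yd2 zd3) (kd xd2 yd2 zd4) (kd xd2 yd2 zd5)) (@D3.rec (fun _ => Pt) (kd xd2 yd3 zd0) (kd xd2 yd3 zd1) (kd xd2 yd3 zd2) (kd xd2 yd3 zd3) (kd xd2 yd3 zd4) (kd xd2 yd3 zd5)) (@D3.rec (fun _ => Pt) (kd xd2 yd4 zd0) (kd xd2 yd4 zd1) (kd xd2 yd4 zd2) (kd xd2 yd4 zd3) (kd xd2 yd4 zd4) (kd xd2 yd4 zd5)) (@D3.rec (fun _ => Pt) (kd xd2 yd5 zd0) (kd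 xd2 yd5 zd1) (kd xd2 yd5 zd2) (kd xd2 yd5 zd3) (kd xd2 yd5 zd4) (kd xd2 yd5 zd5))
def f_d_3 : D2 → D3 → Pt := @D2.rec (fun _ => D3 → Pt) (@D3.rec (fun _ => Pt) (kd xd3 yd0 zd0) (kd xd3 yd0 zd1) (kd xd3 yd0 zd2) (kd xd3 yd0 zd3) (kd xd3 yd0 zd4) (kd xd3 yd0 zd5)) (@D3.rec (fun _ => Pt) (kd xd3 yd1 zd0) (kd xd3 yd1 zd1) (kd xd3 yd1 zd2) (kd xd3 yd1 zd3) (kd xd3 yd1 zd4) (kd xd3 yd1 zd5)) (@D3.rec (fun _ => Pt) (kd xd3 yd2 zd0) (kd xd3 yd2 zd1) (kd xd3 yd2 zd2) (kd xd3 yd2 zd3) (kd xd3 yd2 zd4) (kd xd3 yd2 zd5)) (@D3.rec (fun _ => Pt) (kd xd3 yd3 zd0) (kd xd3 yd3 zd1) (kd xd3 yd3 zd2) (kd xd3 yd3 zd3) (kd xd3 yd3 zd4) (kd xd3 yd3 zd5)) (@D3.rec (fun _ => Pt) (kd xd3 yd4 zd0) (kd xd3 yd4 zd1) (kd xd3 yd4 zd2) (kd xd3 yd4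 zd3) (kd xd3 yd4 zd4) (kd xd3 yd4 zd5)) (@D3.rec (fun _ => Pt) (kd xd3 yd5 zd0) (kd xd3 yd5 zd1) (kd xd3 yd5 zd2) (kd xd3 yd5 zd3) (kd xd3 yd5 zd4) (kd xd3 yd5 zd5))
def f_d : Pt → Pt := @Pt.rec (fun _ => Pt) (@D1.rec (fun _ => D2 → D3 → Pt) f_d_0 f_d_1 f_d_2 f_d_3)
def fi_d_0 : D2 → D3 → Pt := @D2.rec (fun _ => D3 → Pt) (@D3.rec (fun _ => Pt) (kd xd0 yd0 zd0) (kd xd0 yd0 zd1) (kd xd0 yd0 zd2) (kd xd0 yd0 zd3) (kd xd0 yd0 zd4) (kd xd0 yd0 zd5)) (@D3.rec (fun _ => Pt) (kd xd0 yd1 zd0) (kd xd0 yd1 zd1) (kd xd0 yd1 zd2) (kd xd0 yd1 zd3) (kd xd0 yd1 zd4) (kd xd0 yd1 zd5)) (@D3.rec (fun _ => Pt) (kd xd0 yd2 zd0) (kd xd0 yd2 zd1) (kd xd0 yd2 zd2) (kd xd0 yd2 zd3) (kd xd0 yd2 zd4) (kd xd0 yd2 zd5)) (@D3.rec (fun _ => Pt) (kd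 xd0 yd3 zd0) (kd xd0 yd3 zd1) (kd xd0 yd3 zd2) (kd xd0 yd3 zd3) (kd xd0 yd3 zd4) (kd xd0 yd3 zd5)) (@D3.rec (fun _ => Pt) (kd xd0 yd4 zd0) (kd xd0 yd4 zd1) (kd xd0 yd4 zd2) (kd xd0 yd4 zd3) (kd xd0 yd4 zd4) (kd xd0 yd4 zd5)) (@D3.rec (fun _ => Pt) (kd xd0 yd5 zd0) (kd xd0 yd5 zd1) (kd xd0 yd5 zd2) (kd xd0 yd5 zd3) (kd xd0 yd5 zd4) (kd xd0 yd5 zd5))
def fi_d_1 : D2 → D3 → Pt := @D2.rec (fun _ => D3 → Pt) (@D3.rec (fun _ => Pt) (kd xd1 yd0 zd0) (kd xd1 yd0 zd1) (kd xd1 yd0 zd2) (kd xd1 yd0 zd3) (kd xd1 yd0 zd4) (kd xd1 yd0 zd5)) (@D3.rec (fun _ => Pt) (kd xd1 yd1 zd0) (kd xd1 yd1 zd1) (kd xd1 yd1 zd2) (kd xd1 yd1 zd3) (kd xd1 yd1 zd4) (kd xd1 yd1 zd5)) (@D3.rec (fun _ => Pt) (kd xd1 yd2 zd0) (kd xd1 yd2 zd1) (kd xd1 yd2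 zd2) (kd xd1 yd2 zd3) (kd xd1 yd2 zd4) (kd xd1 yd2 zd5)) (@D3.rec (fun _ => Pt) (kd xd1 yd3 zd0) (kd xd1 yd3 zd1) (kd xd1 yd3 zd2) (kd xd1 yd3 zd3) (kd xd1 yd3 zd4) (kd xd1 yd3 zd5)) (@D3.rec (fun _ => Pt) (kd xd1 yd4 zd0) (kd xd1 yd4 zd1) (kd xd1 yd4 zd2) (kd xd1 yd4 zd3) (kd xd1 yd4 zd4) (kd xd1 yd4 zd5)) (@D3.rec (fun _ => Pt) (kd xd1 yd5 zd0) (kd xd1 yd5 zd1) (kd xd1 yd5 zd2) (kd xd1 yd5 zd3) (kd xd1 yd5 zd4) (kd xd1 yd5 zd5))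
def fi_d_2 : D2 → D3 → Pt := @D2.rec (fun _ => D3 → Pt) (@D3.rec (fun _ => Pt) (kd xd2 yd0 zd0) (kd xd2 yd0 zd1) (kd xd2 yd0 zd2) (kd xd2 yd0 zd3) (kd xd2 yd0 zd4) (kd xd2 yd0 zd5)) (@D3.rec (fun _ => Pt) (kd xd2 yd1 zd0) (kd xd2 yd1 zd1) (kd xd2 yd1 zd2) (kd xd2 yd1 zd3) (kd xd2 yd1 zd4) (kd xd2 yd1 zd5)) (@D3.rec (fun _ => Pt) (kd xd2 yd2 zd0) (kd xd2 yd2 zd1) (kd xd2 yd2 zd2) (kd xd2 yd2 zd3) (kd xd2 yd2 zd4) (kd xd2 yd2 zd5)) (@D3.rec (fun _ => Pt) (kd xd2 yd3 zd0) (kd xd2 yd3 zd1) (kd xd2 yd3 zd2) (kd xd2 yd3 zd3) (kd xd2 yd3 zd4) (kd xd2 yd3 zd5)) (@D3.rec (fun _ => Pt) (kd xd2 yd4 zd0) (kd xd2 yd4 zd1) (kd xd2 yd4 zd2) (kd xd2 yd4 zd3) (kd xd2 yd4 zd4) (kd xd2 yd4 zd5)) (@D3.rec (fun _ => Pt) (kd xd2 yd5 zd0)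 (kd xd2 yd5 zd1) (kd xd2 yd5 zd2) (kd xd2 yd5 zd3) (kd xd2 yd5 zd4) (kd xd2 yd5 zd5))
def fi_d_3 : D2 → D3 → Pt := @D2.rec (fun _ => D3 → Pt) (@D3.rec (fun _ => Pt) (kd xd3 yd0 zd0) (kd xd3 yd0 zd1) (kd xd3 yd0 zd2) (kd xd3 yd0 zd3) (kd xd3 yd0 zd4) (kd xd3 yd0 zd5)) (@D3.rec (fun _ => Pt) (kd xd3 yd1 zd0) (kd xd3 yd1 zd1) (kd xd3 yd1 zd2) (kd xd3 yd1 zd3) (kd xd3 yd1 zd4) (kd xd3 yd1 zd5)) (@D3.rec (fun _ => Pt) (kd xd3 yd2 zd0) (kd xd3 yd2 zd1) (kd xd3 yd2 zd2) (kd xd3 yd2 zd3) (kd xd3 yd2 zd4) (kd xd3 yd2 zd5)) (@D3.rec (fun _ => Pt) (kd xd3 yd3 zd0) (kd xd3 yd3 zd1) (kd xd3 yd3 zd2) (kd xd3 yd3 zd3) (kd xd3 yd3 zd4) (kd xd3 yd3 zd5)) (@D3.rec (fun _ => Pt) (kd xd3 yd4 zd0) (kd xd3 yd4 zd1) (kd xd3 yd4 zd2) (kd xd3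 yd4 zd3) (kd xd3 yd4 zd4) (kd xd3 yd4 zd5)) (@D3.rec (fun _ => Pt) (kd xd3 yd5 zd0) (kd xd3 yd5 zd1) (kd xd3 yd5 zd2) (kd xd3 yd5 zd3) (kd xd3 yd5 zd4) (kd xd3 yd5 zd5))
def fi_d : Pt → Pt := @Pt.rec (fun _ => Pt) (@D1.rec (fun _ => D2 → D3 → Pt) fi_d_0 fi_d_1 fi_d_2 fi_d_3)

theorem inv_chk_d : chkInv allPts beqPt f_d fi_d = true := by decide +kernel

end

end Cfsg.Agent.Helper28.L37WT
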