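import Cfsg.Agent.Lib.Helper28.L37WT.Defs

set_option autoImplicit false
set_option maxRecDepth 100000
set_option linter.all false

namespace Cfsg.Agent.Helper28.L37WT

open Cfsg.Agent.Helper28
open Cfsg.Agent.Helper28.L37W (Gen)

noncomputable section

abbrev ke := Pt.mk
abbrev xe0 := D1.c0
abbrev xe1 := D1.c1
abbrev xe2 := D1.c2
abbrev xe3 := D1.c3
abbrev ye0 := D2.c0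
abbrev ye1 := D2.c1
abbrev ye2 := D2.c2
abbrev ye3 := D2.c3
abbrev ye4 := D2.c4
abbrev ye5 := D2.c5
abbrev ze0 := D3.c0
abbrev ze1 := D3.c1
abbrev ze2 := D3.c2
abbrev ze3 := D3.c3
abbrev ze4 := D3.c4
abbrev ze5 := D3.c5
def f_e_0 : D2 → D3 → Pt := @D2.rec (fun _ => D3 → Pt) (@D3.rec (fun _ => Pt) (ke xe0 ye0 ze4) (ke xe0 ye1 ze2) (ke xe0 ye2 ze0) (ke xe0 ye2 ze3) (ke xe0 ye0 ze0) (ke xe0 ye3 ze0)) (@D3.rec (fun _ => Pt) (ke xe0 ye3 ze3) (ke xe0 ye4 ze0) (ke xe0 ye0 ze1) (ke xe0 ye4 ze3) (ke xe0 ye4 ze5) (ke xe0 ye5 ze2)) (@D3.rec (fun _ => Pt) (ke xe0 ye0 ze2) (ke xe0 ye5 ze5) (ke xe1 ye0 ze1) (ke xe0 ye0 ze3) (ke xe1 ye0 ze4) (ke xe1 ye0 ze5)) (@D3.rec (fun _ => Pt) (ke xe0 ye0 ze5) (ke xe1 ye1 ze1) (ke xe1 ye1 ze4) (ke xe0 ye1 ze0)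 (ke xe1 ye2 ze1) (ke xe1 ye2 ze3)) (@D3.rec (fun _ => Pt) (ke xe0 ye1 ze1) (ke xe1 ye3 ze0) (ke xe1 ye3 ze1) (ke xe0 ye1 ze3) (ke xe1 ye3 ze3) (ke xe0 ye1 ze4)) (@D3.rec (fun _ => Pt) (ke xe1 ye4 ze0) (ke xe1 ye4 ze2) (ke xe0 ye1 ze5) (ke xe1 ye4 ze5) (ke xe1 ye5 ze0) (ke xe0 ye2 ze1))
def f_e_1 : D2 → D3 → Pt := @D2.rec (fun _ => D3 → Pt) (@D3.rec (fun _ => Pt) (ke xe1 ye5 ze1) (ke xe0 ye2 ze2) (ke xe1 ye5 ze4) (ke xe1 ye5 ze5) (ke xe0 ye2 ze4) (ke xe0 ye2 ze5)) (@D3.rec (fun _ => Pt) (ke xe2 ye0 ze1) (ke xe0 ye3 ze1) (ke xe2 ye0 ze4) (ke xe2 ye1 ze0) (ke xe0 ye3 ze2) (ke xe2 ye1 ze3)) (@D3.rec (fun _ => Pt) (ke xe2 ye1 ze4) (ke xe0 ye3 ze4) (ke xe2 ye1 ze5) (ke xe0 ye3 ze5) (ke xe2 ye2 ze2) (ke xe2 ye2 ze3)) (@D3.rec (fun _ => Pt)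 (ke xe0 ye4 ze1) (ke xe0 ye4 ze2) (ke xe2 ye2 ze5) (ke xe0 ye4 ze4) (ke xe2 ye3 ze2) (ke xe2 ye3 ze3)) (@D3.rec (fun _ => Pt) (ke xe0 ye5 ze0) (ke xe2 ye3 ze4) (ke xe0 ye5 ze1) (ke xe2 ye4 ze1) (ke xe2 ye4 ze2) (ke xe0 ye5 ze3)) (@D3.rec (fun _ => Pt) (ke xe0 ye5 ze4) (ke xe1 ye0 ze0) (ke xe2 ye4 ze4) (ke xe2 ye4 ze5) (ke xe1 ye0 ze2) (ke xe1 ye0 ze3))
def f_e_2 : D2 → D3 → Pt := @D2.rec (fun _ => D3 → Pt) (@D3.rec (fun _ => Pt) (ke xe2 ye5 ze1) (ke xe1 ye1 ze0) (ke xe2 ye5 ze4) (ke xe2 ye5 ze5) (ke xe1 ye1 ze2) (ke xe3 ye0 ze0)) (@D3.rec (fun _ => Pt) (ke xe1 ye1 ze3) (ke xe3 ye0 ze3) (ke xe3 ye0 ze4) (ke xe1 ye1 ze5) (ke xe1 ye2 ze0) (ke xe1 ye2 ze2)) (@D3.rec (fun _ => Pt) (ke xe3 ye1 ze0) (ke xe3 ye1 ze1) (ke xe1 ye2 ze4) (ke xe1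 ye2 ze5) (ke xe3 ye1 ze2) (ke xe1 ye3 ze2)) (@D3.rec (fun _ => Pt) (ke xe3 ye1 ze5) (ke xe3 ye2 ze0) (ke xe1 ye3 ze4) (ke xe1 ye3 ze5) (ke xe1 ye4 ze1) (ke xe3 ye2 ze2)) (@D3.rec (fun _ => Pt) (ke xe3 ye2 ze3) (ke xe1 ye4 ze3) (ke xe1 ye4 ze4) (ke xe3 ye2 ze4) (ke xe1 ye5 ze2) (ke xe1 ye5 ze3)) (@D3.rec (fun _ => Pt) (ke xe3 ye2 ze5) (ke xe2 ye0 ze0) (ke xe3 ye3 ze2) (ke xe3 ye3 ze3) (ke xe2 ye0 ze2) (ke xe2 ye0 ze3))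
def f_e_3 : D2 → D3 → Pt := @D2.rec (fun _ => D3 → Pt) (@D3.rec (fun _ => Pt) (ke xe2 ye0 ze5) (ke xe3 ye3 ze5) (ke xe3 ye4 ze0) (ke xe2 ye1 ze1) (ke xe2 ye1 ze2) (ke xe3 ye4 ze1)) (@D3.rec (fun _ => Pt) (ke xe2 ye2 ze0) (ke xe2 ye2 ze1) (ke xe2 ye2 ze4) (ke xe3 ye4 ze3) (ke xe3 ye4 ze4) (ke xe2 ye3 ze0)) (@D3.rec (fun _ => Pt) (ke xe2 ye3 ze1) (ke xe3 ye4 ze5) (ke xe2 ye3 ze5) (ke xe2 ye4 ze0) (ke xe2 ye4 ze3) (ke xe2 ye5 ze0)) (@D3.rec (fun _ => Pt) (ke xe3 ye5 ze1) (ke xe3 ye5 ze2) (ke xe2 ye5 ze2) (ke xe2 ye5 ze3) (ke xe3 ye5 ze3) (ke xe3 ye0 ze1)) (@D3.rec (fun _ => Pt) (ke xe3 ye0 ze2) (ke xe3 ye0 ze5) (ke xe3 ye5 ze4) (ke xe3 ye1 ze3) (ke xe3 ye1 ze4) (ke xe3 ye2 ze1)) (@D3.rec (fun _ => Pt) (ke xe3 ye5 ze5) (ke xe3 ye3 ze0)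 (ke xe3 ye3 ze1) (ke xe3 ye3 ze4) (ke xe3 ye4 ze2) (ke xe3 ye5 ze0))
def f_e : Pt → Pt := @Pt.rec (fun _ => Pt) (@D1.rec (fun _ => D2 → D3 → Pt) f_e_0 f_e_1 f_e_2 f_e_3)
def fi_e : Pt → Pt := f_e

theorem inv_chk_e : chkInv allPts beqPt f_e fi_e = true := by decide +kernel

end

end Cfsg.Agent.Helper28.L37WT
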