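import Cfsg.Agent.Lib.Helper28.L37WT.Defs

set_option autoImplicit false
set_option maxRecDepth 100000
set_option linter.all false

namespace Cfsg.Agent.Helper28.L37WT

open Cfsg.Agent.Helper28
open Cfsg.Agent.Helper28.L37W (Gen)

noncomputable section

abbrev kf := Pt.mk
abbrev xf0 := D1.c0
abbrev xf1 := D1.c1
abbrev xf2 := D1.c2
abbrev xf3 := D1.c3
abbrev yf0 := D2.c0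
abbrev yf1 := D2.c1
abbrev yf2 := D2.c2
abbrev yf3 := D2.c3
abbrev yf4 := D2.c4
abbrev yf5 := D2.c5
abbrev zf0 := D3.c0
abbrev zf1 := D3.c1
abbrev zf2 := D3.c2
abbrev zf3 := D3.c3
abbrev zf4 := D3.c4
abbrev zf5 := D3.c5
def f_f_0 : D2 → D3 → Pt := @D2.rec (fun _ => D3 → Pt) (@D3.rec (fun _ => Pt) (kf xf0 yf0 zf5) (kf xf0 yf1 zf3) (kf xf0 yf2 zf1) (kf xf0 yf2 zf4) (kf xf0 yf2 zf5) (kf xf0 yf0 zf0)) (@D3.rec (fun _ => Pt) (kf xf0 yf3 zf4) (kf xf0 yf4 zf1) (kf xf0 yf4 zf2) (kf xf0 yf0 zf1) (kf xf0 yf5 zf0) (kf xf0 yf5 zf3)) (@D3.rec (fun _ => Pt) (kf xf0 yf5 zf4) (kf xf0 yf0 zf2) (kf xf1 yf0 zf2) (kf xf1 yf0 zf3) (kf xf0 yf0 zf3) (kf xf0 yf0 zf4)) (@D3.rec (fun _ => Pt) (kf xf1 yf0 zf5) (kf xf1 yf1 zf2) (kf xf1 yf1 zf5) (kf xf1 yf2 zf0)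 (kf xf0 yf1 zf0) (kf xf1 yf2 zf4)) (@D3.rec (fun _ => Pt) (kf xf1 yf2 zf5) (kf xf0 yf1 zf1) (kf xf0 yf1 zf2) (kf xf1 yf3 zf1) (kf xf1 yf3 zf4) (kf xf1 yf3 zf5)) (@D3.rec (fun _ => Pt) (kf xf0 yf1 zf4) (kf xf1 yf4 zf3) (kf xf1 yf4 zf4) (kf xf0 yf1 zf5) (kf xf0 yf2 zf0) (kf xf1 yf5 zf0))
def f_f_1 : D2 → D3 → Pt := @D2.rec (fun _ => D3 → Pt) (@D3.rec (fun _ => Pt) (kf xf1 yf5 zf2) (kf xf1 yf5 zf3) (kf xf0 yf2 zf2) (kf xf0 yf2 zf3) (kf xf1 yf5 zf5) (kf xf0 yf3 zf0)) (@D3.rec (fun _ => Pt) (kf xf2 yf0 zf2) (kf xf2 yf0 zf3) (kf xf0 yf3 zf1) (kf xf2 yf1 zf1) (kf xf2 yf1 zf2) (kf xf0 yf3 zf2)) (@D3.rec (fun _ => Pt) (kf xf0 yf3 zf3) (kf xf2 yf1 zf4) (kf xf2 yf2 zf0) (kf xf2 yf2 zf1) (kf xf0 yf3 zf5) (kf xf0 yf4 zf0)) (@D3.rec (fun _ => Pt)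 (kf xf2 yf2 zf3) (kf xf0 yf4 zf3) (kf xf2 yf3 zf0) (kf xf2 yf3 zf1) (kf xf0 yf4 zf4) (kf xf0 yf4 zf5)) (@D3.rec (fun _ => Pt) (kf xf2 yf3 zf3) (kf xf2 yf3 zf5) (kf xf2 yf4 zf0) (kf xf0 yf5 zf1) (kf xf0 yf5 zf2) (kf xf2 yf4 zf2)) (@D3.rec (fun _ => Pt) (kf xf0 yf5 zf5) (kf xf2 yf4 zf3) (kf xf1 yf0 zf0) (kf xf1 yf0 zf1) (kf xf2 yf4 zf5) (kf xf1 yf0 zf4))
def f_f_2 : D2 → D3 → Pt := @D2.rec (fun _ => D3 → Pt) (@D3.rec (fun _ => Pt) (kf xf2 yf5 zf2) (kf xf2 yf5 zf3) (kf xf1 yf1 zf0) (kf xf1 yf1 zf1) (kf xf2 yf5 zf5) (kf xf3 yf0 zf1)) (@D3.rec (fun _ => Pt) (kf xf3 yf0 zf2) (kf xf1 yf1 zf3) (kf xf1 yf1 zf4) (kf xf3 yf0 zf4) (kf xf1 yf2 zf1) (kf xf3 yf0 zf5)) (@D3.rec (fun _ => Pt) (kf xf1 yf2 zf2) (kf xf1 yf2 zf3) (kf xf3 yf1 zf1) (kf xf1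 yf3 zf0) (kf xf3 yf1 zf3) (kf xf3 yf1 zf4)) (@D3.rec (fun _ => Pt) (kf xf1 yf3 zf2) (kf xf1 yf3 zf3) (kf xf3 yf2 zf0) (kf xf1 yf4 zf0) (kf xf3 yf2 zf1) (kf xf1 yf4 zf1)) (@D3.rec (fun _ => Pt) (kf xf1 yf4 zf2) (kf xf3 yf2 zf3) (kf xf1 yf4 zf5) (kf xf1 yf5 zf1) (kf xf3 yf2 zf4) (kf xf1 yf5 zf4)) (@D3.rec (fun _ => Pt) (kf xf3 yf3 zf0) (kf xf3 yf3 zf1) (kf xf2 yf0 zf0) (kf xf2 yf0 zf1) (kf xf3 yf3 zf3) (kf xf2 yf0 zf4))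
def f_f_3 : D2 → D3 → Pt := @D2.rec (fun _ => D3 → Pt) (@D3.rec (fun _ => Pt) (kf xf3 yf3 zf4) (kf xf2 yf0 zf5) (kf xf2 yf1 zf0) (kf xf3 yf4 zf0) (kf xf2 yf1 zf3) (kf xf2 yf1 zf5)) (@D3.rec (fun _ => Pt) (kf xf3 yf4 zf1) (kf xf2 yf2 zf2) (kf xf3 yf4 zf2) (kf xf2 yf2 zf4) (kf xf2 yf2 zf5) (kf xf3 yf4 zf4)) (@D3.rec (fun _ => Pt) (kf xf2 yf3 zf2) (kf xf2 yf3 zf4) (kf xf3 yf4 zf5) (kf xf2 yf4 zf1) (kf xf2 yf4 zf4) (kf xf3 yf5 zf0)) (@D3.rec (fun _ => Pt) (kf xf2 yf5 zf0) (kf xf2 yf5 zf1) (kf xf3 yf5 zf2) (kf xf2 yf5 zf4) (kf xf3 yf0 zf0) (kf xf3 yf5 zf3)) (@D3.rec (fun _ => Pt) (kf xf3 yf0 zf3) (kf xf3 yf1 zf0) (kf xf3 yf1 zf2) (kf xf3 yf5 zf4) (kf xf3 yf1 zf5) (kf xf3 yf2 zf2)) (@D3.rec (fun _ => Pt) (kf xf3 yf2 zf5) (kf xf3 yf5 zf5)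 (kf xf3 yf3 zf2) (kf xf3 yf3 zf5) (kf xf3 yf4 zf3) (kf xf3 yf5 zf1))
def f_f : Pt → Pt := @Pt.rec (fun _ => Pt) (@D1.rec (fun _ => D2 → D3 → Pt) f_f_0 f_f_1 f_f_2 f_f_3)
def fi_f : Pt → Pt := f_f

theorem inv_chk_f : chkInv allPts beqPt f_f fi_f = true := by decide +kernel

end

end Cfsg.Agent.Helper28.L37WT
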