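import Cfsg.Agent.Lib.Helper28.L37WT.Tree

set_option autoImplicit false
set_option maxRecDepth 100000
set_option linter.all false

namespace Cfsg.Agent.Helper28.L37WT

open Cfsg.Agent.Helper28
open Cfsg.Agent.Helper28.L37W (Gen)

noncomputable section

def lv_b_0 : D2 → D3 → Nat := @D2.rec (fun _ => D3 → Nat) (@D3.rec (fun _ => Nat) 0 0 1 0 2 2) (@D3.rec (fun _ => Nat) 1 0 2 2 2 0) (@D3.rec (fun _ => Nat) 2 2 1 2 2 3) (@D3.rec (fun _ => Nat) 3 2 0 2 2 1) (@D3.rec (fun _ => Nat) 2 2 3 3 0 3) (@D3.rec (fun _ => Nat) 3 1 2 2 3 3)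
def lv_b_1 : D2 → D3 → Nat := @D2.rec (fun _ => D3 → Nat) (@D3.rec (fun _ => Nat) 3 2 2 3 3 4) (@D3.rec (fun _ => Nat) 0 3 3 1 2 2) (@D3.rec (fun _ => Nat) 3 3 3 2 2 3) (@D3.rec (fun _ => Nat) 3 4 1 2 2 4) (@D3.rec (fun _ => Nat) 4 3 2 2 3 3) (@D3.rec (fun _ => Nat) 4 4 4 3 3 4)
def lv_b_2 : D2 → D3 → Nat := @D2.rec (fun _ => D3 → Nat) (@D3.rec (fun _ => Nat) 1 2 2 4 4 3) (@D3.rec (fun _ => Nat) 2 2 3 3 4 4) (@D3.rec (fun _ => Nat) 4 3 3 4 3 2) (@D3.rec (fun _ => Nat) 2 3 3 5 4 4) (@D3.rec (fun _ => Nat) 3 3 4 5 5 4) (@D3.rec (fun _ => Nat) 3 2 2 3 3 5)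
def lv_b_3 : D2 → D3 → Nat := @D2.rec (fun _ => D3 → Nat) (@D3.rec (fun _ => Nat) 4 4 3 3 4 5) (@D3.rec (fun _ => Nat) 5 4 4 4 3 3) (@D3.rec (fun _ => Nat) 4 5 5 4 6 4) (@D3.rec (fun _ => Nat) 4 3 3 4 5 5) (@D3.rec (fun _ => Nat) 4 6 5 5 4 6) (@D3.rec (fun _ => Nat) 5 5 4 6 6 6)
def lv_b : Pt → Nat := @Pt.rec (fun _ => Nat) (@D1.rec (fun _ => D2 → D3 → Nat) lv_b_0 lv_b_1 lv_b_2 lv_b_3)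
abbrev lc_b_Cert_tree : Cert rels S Gen.b := Cert.tree
abbrev lc_b_rc_1_3 : Cert rels S Gen.b := rc_1_3
abbrev lc_b_rc_5_0 : Cert rels S Gen.b := rc_5_0
abbrev lc_b_rc_7_2 : Cert rels S Gen.b := rc_7_2
abbrev lc_b_rc_8_2 : Cert rels S Gen.b := rc_8_2
def ce_b_0 : D2 → D3 → (Cert rels S Gen.b) := @D2.rec (fun _ => D3 → (Cert rels S Gen.b)) (@D3.rec (fun _ => (Cert rels S Gen.b)) lc_b_Cert_tree lc_b_Cert_tree lc_b_rc_5_0 lc_b_Cert_tree lc_b_rc_7_2 lc_b_rc_8_2) (@D3.rec (fun _ => (Cert rels S Gen.b)) lc_b_rc_5_0 lc_b_Cert_tree lc_b_rc_7_2 lc_b_rc_8_2 lc_b_rc_1_3 lc_b_Cert_tree) (@D3.rec (fun _ => (Cert rels S Gen.b)) lc_b_rc_7_2 lc_b_rc_8_2 lc_b_rc_5_0 lc_b_rc_7_2 lc_b_rc_8_2 lc_b_rc_8_2) (@D3.rec (fun _ => (Cert rels S Gen.b)) lc_b_rc_7_2 lc_b_rc_1_3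 lc_b_Cert_tree lc_b_rc_7_2 lc_b_rc_8_2 lc_b_rc_5_0) (@D3.rec (fun _ => (Cert rels S Gen.b)) lc_b_rc_7_2 lc_b_rc_8_2 lc_b_rc_8_2 lc_b_rc_7_2 lc_b_Cert_tree lc_b_rc_7_2) (@D3.rec (fun _ => (Cert rels S Gen.b)) lc_b_rc_8_2 lc_b_rc_5_0 lc_b_rc_7_2 lc_b_rc_8_2 lc_b_rc_8_2 lc_b_rc_7_2)
def ce_b_1 : D2 → D3 → (Cert rels S Gen.b) := @D2.rec (fun _ => D3 → (Cert rels S Gen.b)) (@D3.rec (fun _ => (Cert rels S Gen.b)) lc_b_rc_1_3 lc_b_rc_7_2 lc_b_rc_8_2 lc_b_rc_8_2 lc_b_rc_7_2 lc_b_rc_7_2) (@D3.rec (fun _ => (Cert rels S Gen.b)) lc_b_Cert_tree lc_b_rc_7_2 lc_b_rc_8_2 lc_b_rc_5_0 lc_b_rc_7_2 lc_b_rc_8_2) (@D3.rec (fun _ => (Cert rels S Gen.b)) lc_b_rc_8_2 lc_b_rc_7_2 lc_b_rc_1_3 lc_b_rc_7_2 lc_b_rc_8_2 lc_b_rc_8_2) (@D3.rec (fun _ => (Cert rels S Gen.b))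 lc_b_rc_7_2 lc_b_rc_7_2 lc_b_rc_5_0 lc_b_rc_7_2 lc_b_rc_8_2 lc_b_rc_8_2) (@D3.rec (fun _ => (Cert rels S Gen.b)) lc_b_rc_7_2 lc_b_rc_1_3 lc_b_rc_7_2 lc_b_rc_8_2 lc_b_rc_8_2 lc_b_rc_7_2) (@D3.rec (fun _ => (Cert rels S Gen.b)) lc_b_rc_7_2 lc_b_rc_1_3 lc_b_rc_1_3 lc_b_rc_8_2 lc_b_rc_7_2 lc_b_rc_7_2)
def ce_b_2 : D2 → D3 → (Cert rels S Gen.b) := @D2.rec (fun _ => D3 → (Cert rels S Gen.b)) (@D3.rec (fun _ => (Cert rels S Gen.b)) lc_b_rc_5_0 lc_b_rc_7_2 lc_b_rc_8_2 lc_b_rc_8_2 lc_b_rc_7_2 lc_b_rc_1_3) (@D3.rec (fun _ => (Cert rels S Gen.b)) lc_b_rc_7_2 lc_b_rc_8_2 lc_b_rc_8_2 lc_b_rc_7_2 lc_b_rc_7_2 lc_b_rc_1_3) (@D3.rec (fun _ => (Cert rels S Gen.b)) lc_b_rc_1_3 lc_b_rc_8_2 lc_b_rc_7_2 lc_b_rc_7_2 lc_b_rc_1_3 lc_b_rc_7_2) (@D3.rec (fun _ => (Cert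 rels S Gen.b)) lc_b_rc_8_2 lc_b_rc_8_2 lc_b_rc_7_2 lc_b_rc_7_2 lc_b_rc_1_3 lc_b_rc_1_3) (@D3.rec (fun _ => (Cert rels S Gen.b)) lc_b_rc_8_2 lc_b_rc_7_2 lc_b_rc_7_2 lc_b_rc_1_3 lc_b_rc_7_2 lc_b_rc_7_2) (@D3.rec (fun _ => (Cert rels S Gen.b)) lc_b_rc_1_3 lc_b_rc_7_2 lc_b_rc_8_2 lc_b_rc_8_2 lc_b_rc_7_2 lc_b_rc_7_2)
def ce_b_3 : D2 → D3 → (Cert rels S Gen.b) := @D2.rec (fun _ => D3 → (Cert rels S Gen.b)) (@D3.rec (fun _ => (Cert rels S Gen.b)) lc_b_rc_1_3 lc_b_rc_1_3 lc_b_rc_8_2 lc_b_rc_7_2 lc_b_rc_7_2 lc_b_rc_1_3) (@D3.rec (fun _ => (Cert rels S Gen.b)) lc_b_rc_7_2 lc_b_rc_7_2 lc_b_rc_1_3 lc_b_rc_1_3 lc_b_rc_8_2 lc_b_rc_7_2) (@D3.rec (fun _ => (Cert rels S Gen.b)) lc_b_rc_7_2 lc_b_rc_1_3 lc_b_rc_7_2 lc_b_rc_7_2 lc_b_rc_7_2 lc_b_rc_1_3) (@D3.rec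 (fun _ => (Cert rels S Gen.b)) lc_b_rc_1_3 lc_b_rc_8_2 lc_b_rc_7_2 lc_b_rc_7_2 lc_b_rc_1_3 lc_b_rc_7_2) (@D3.rec (fun _ => (Cert rels S Gen.b)) lc_b_rc_7_2 lc_b_rc_7_2 lc_b_rc_1_3 lc_b_rc_7_2 lc_b_rc_7_2 lc_b_rc_7_2) (@D3.rec (fun _ => (Cert rels S Gen.b)) lc_b_rc_1_3 lc_b_rc_7_2 lc_b_rc_7_2 lc_b_rc_7_2 lc_b_rc_7_2 lc_b_rc_7_2)
def ce_b : Pt → (Cert rels S Gen.b) := @Pt.rec (fun _ => (Cert rels S Gen.b)) (@D1.rec (fun _ => D2 → D3 → (Cert rels S Gen.b)) ce_b_0 ce_b_1 ce_b_2 ce_b_3)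
def isSeed_b (p : Pt) : Bool := false

end

end Cfsg.Agent.Helper28.L37WT
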