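import Cfsg.Agent.Lib.Helper28.L37WT.Tree

set_option autoImplicit false
set_option maxRecDepth 100000
set_option linter.all false

namespace Cfsg.Agent.Helper28.L37WT

open Cfsg.Agent.Helper28
open Cfsg.Agent.Helper28.L37W (Gen)

noncomputable section

def lv_c_0 : D2 → D3 → Nat := @D2.rec (fun _ => D3 → Nat) (@D3.rec (fun _ => Nat) 0 0 0 1 2 2) (@D3.rec (fun _ => Nat) 0 1 2 2 0 1) (@D3.rec (fun _ => Nat) 2 2 2 2 2 3) (@D3.rec (fun _ => Nat) 3 0 1 2 2 2) (@D3.rec (fun _ => Nat) 2 2 3 3 1 2) (@D3.rec (fun _ => Nat) 2 2 2 2 3 3)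
def lv_c_1 : D2 → D3 → Nat := @D2.rec (fun _ => D3 → Nat) (@D3.rec (fun _ => Nat) 3 3 3 3 3 4) (@D3.rec (fun _ => Nat) 1 2 2 2 2 2) (@D3.rec (fun _ => Nat) 3 3 3 3 3 3) (@D3.rec (fun _ => Nat) 3 4 3 2 2 3) (@D3.rec (fun _ => Nat) 3 3 3 3 3 3) (@D3.rec (fun _ => Nat) 4 4 4 4 4 4)
def lv_c_2 : D2 → D3 → Nat := @D2.rec (fun _ => D3 → Nat) (@D3.rec (fun _ => Nat) 3 2 2 3 3 3) (@D3.rec (fun _ => Nat) 3 3 3 3 4 4) (@D3.rec (fun _ => Nat) 4 4 4 4 4 4) (@D3.rec (fun _ => Nat) 4 3 3 4 4 4) (@D3.rec (fun _ => Nat) 4 4 4 5 5 5) (@D3.rec (fun _ => Nat) 4 4 4 3 3 4)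
def lv_c_3 : D2 → D3 → Nat := @D2.rec (fun _ => D3 → Nat) (@D3.rec (fun _ => Nat) 4 4 4 4 4 5) (@D3.rec (fun _ => Nat) 5 5 5 5 5 5) (@D3.rec (fun _ => Nat) 4 5 5 5 6 5) (@D3.rec (fun _ => Nat) 5 5 5 4 5 5) (@D3.rec (fun _ => Nat) 5 6 6 6 6 6) (@D3.rec (fun _ => Nat) 6 6 6 6 7 7)
def lv_c : Pt → Nat := @Pt.rec (fun _ => Nat) (@D1.rec (fun _ => D2 → D3 → Nat) lv_c_0 lv_c_1 lv_c_2 lv_c_3)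
abbrev lc_c_Cert_tree : Cert rels S Gen.c := Cert.tree
abbrev lc_c_rc_10_2 : Cert rels S Gen.c := rc_10_2
abbrev lc_c_rc_11_2 : Cert rels S Gen.c := rc_11_2
abbrev lc_c_rc_2_1 : Cert rels S Gen.c := rc_2_1
abbrev lc_c_rc_6_3 : Cert rels S Gen.c := rc_6_3
abbrev lc_c_rc_9_0 : Cert rels S Gen.c := rc_9_0
def ce_c_0 : D2 → D3 → (Cert rels S Gen.c) := @D2.rec (fun _ => D3 → (Cert rels S Gen.c)) (@D3.rec (fun _ => (Cert rels S Gen.c)) lc_c_Cert_tree lc_c_Cert_tree lc_c_Cert_tree lc_c_rc_9_0 lc_c_rc_10_2 lc_c_rc_11_2) (@D3.rec (fun _ => (Cert rels S Gen.c)) lc_c_Cert_tree lc_c_rc_9_0 lc_c_rc_10_2 lc_c_rc_11_2 lc_c_Cert_tree lc_c_rc_9_0) (@D3.rec (fun _ => (Cert rels S Gen.c)) lc_c_rc_10_2 lc_c_rc_11_2 lc_c_rc_6_3 lc_c_rc_10_2 lc_c_rc_11_2 lc_c_rc_11_2) (@D3.rec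 (fun _ => (Cert rels S Gen.c)) lc_c_rc_10_2 lc_c_Cert_tree lc_c_rc_9_0 lc_c_rc_10_2 lc_c_rc_11_2 lc_c_rc_6_3) (@D3.rec (fun _ => (Cert rels S Gen.c)) lc_c_rc_10_2 lc_c_rc_11_2 lc_c_rc_11_2 lc_c_rc_10_2 lc_c_rc_9_0 lc_c_rc_10_2) (@D3.rec (fun _ => (Cert rels S Gen.c)) lc_c_rc_11_2 lc_c_rc_6_3 lc_c_rc_10_2 lc_c_rc_11_2 lc_c_rc_11_2 lc_c_rc_10_2)
def ce_c_1 : D2 → D3 → (Cert rels S Gen.c) := @D2.rec (fun _ => D3 → (Cert rels S Gen.c)) (@D3.rec (fun _ => (Cert rels S Gen.c)) lc_c_rc_2_1 lc_c_rc_10_2 lc_c_rc_11_2 lc_c_rc_11_2 lc_c_rc_10_2 lc_c_rc_10_2) (@D3.rec (fun _ => (Cert rels S Gen.c)) lc_c_rc_9_0 lc_c_rc_10_2 lc_c_rc_11_2 lc_c_rc_6_3 lc_c_rc_10_2 lc_c_rc_11_2) (@D3.rec (fun _ => (Cert rels S Gen.c)) lc_c_rc_11_2 lc_c_rc_10_2 lc_c_rc_2_1 lc_c_rc_10_2 lc_c_rc_11_2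 lc_c_rc_11_2) (@D3.rec (fun _ => (Cert rels S Gen.c)) lc_c_rc_10_2 lc_c_rc_10_2 lc_c_rc_6_3 lc_c_rc_10_2 lc_c_rc_11_2 lc_c_rc_11_2) (@D3.rec (fun _ => (Cert rels S Gen.c)) lc_c_rc_10_2 lc_c_rc_2_1 lc_c_rc_10_2 lc_c_rc_11_2 lc_c_rc_11_2 lc_c_rc_10_2) (@D3.rec (fun _ => (Cert rels S Gen.c)) lc_c_rc_10_2 lc_c_rc_2_1 lc_c_rc_2_1 lc_c_rc_11_2 lc_c_rc_10_2 lc_c_rc_10_2)
def ce_c_2 : D2 → D3 → (Cert rels S Gen.c) := @D2.rec (fun _ => D3 → (Cert rels S Gen.c)) (@D3.rec (fun _ => (Cert rels S Gen.c)) lc_c_rc_6_3 lc_c_rc_10_2 lc_c_rc_11_2 lc_c_rc_11_2 lc_c_rc_10_2 lc_c_rc_2_1) (@D3.rec (fun _ => (Cert rels S Gen.c)) lc_c_rc_10_2 lc_c_rc_11_2 lc_c_rc_11_2 lc_c_rc_10_2 lc_c_rc_10_2 lc_c_rc_2_1) (@D3.rec (fun _ => (Cert rels S Gen.c)) lc_c_rc_2_1 lc_c_rc_11_2 lc_c_rc_10_2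 lc_c_rc_10_2 lc_c_rc_2_1 lc_c_rc_10_2) (@D3.rec (fun _ => (Cert rels S Gen.c)) lc_c_rc_11_2 lc_c_rc_11_2 lc_c_rc_10_2 lc_c_rc_10_2 lc_c_rc_2_1 lc_c_rc_2_1) (@D3.rec (fun _ => (Cert rels S Gen.c)) lc_c_rc_11_2 lc_c_rc_10_2 lc_c_rc_10_2 lc_c_rc_2_1 lc_c_rc_10_2 lc_c_rc_10_2) (@D3.rec (fun _ => (Cert rels S Gen.c)) lc_c_rc_2_1 lc_c_rc_10_2 lc_c_rc_11_2 lc_c_rc_11_2 lc_c_rc_10_2 lc_c_rc_10_2)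
def ce_c_3 : D2 → D3 → (Cert rels S Gen.c) := @D2.rec (fun _ => D3 → (Cert rels S Gen.c)) (@D3.rec (fun _ => (Cert rels S Gen.c)) lc_c_rc_2_1 lc_c_rc_2_1 lc_c_rc_11_2 lc_c_rc_10_2 lc_c_rc_10_2 lc_c_rc_2_1) (@D3.rec (fun _ => (Cert rels S Gen.c)) lc_c_rc_10_2 lc_c_rc_10_2 lc_c_rc_2_1 lc_c_rc_2_1 lc_c_rc_11_2 lc_c_rc_10_2) (@D3.rec (fun _ => (Cert rels S Gen.c)) lc_c_rc_10_2 lc_c_rc_2_1 lc_c_rc_10_2 lc_c_rc_10_2 lc_c_rc_10_2 lc_c_rc_2_1) (@D3.rec (fun _ => (Cert rels S Gen.c)) lc_c_rc_2_1 lc_c_rc_11_2 lc_c_rc_10_2 lc_c_rc_10_2 lc_c_rc_2_1 lc_c_rc_10_2) (@D3.rec (fun _ => (Cert rels S Gen.c)) lc_c_rc_10_2 lc_c_rc_10_2 lc_c_rc_2_1 lc_c_rc_10_2 lc_c_rc_10_2 lc_c_rc_10_2) (@D3.rec (fun _ => (Cert rels S Gen.c)) lc_c_rc_2_1 lc_c_rc_10_2 lc_c_rc_10_2 lc_c_rc_10_2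 lc_c_rc_10_2 lc_c_rc_10_2)
def ce_c : Pt → (Cert rels S Gen.c) := @Pt.rec (fun _ => (Cert rels S Gen.c)) (@D1.rec (fun _ => D2 → D3 → (Cert rels S Gen.c)) ce_c_0 ce_c_1 ce_c_2 ce_c_3)
def isSeed_c (p : Pt) : Bool := false

end

end Cfsg.Agent.Helper28.L37WT
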