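import Cfsg.Agent.Lib.Helper28.L37WT.Tree

set_option autoImplicit false
set_option maxRecDepth 100000
set_option linter.all false

namespace Cfsg.Agent.Helper28.L37WT

open Cfsg.Agent.Helper28
open Cfsg.Agent.Helper28.L37W (Gen)

noncomputable section

def lv_d_0 : D2 → D3 → Nat := @D2.rec (fun _ => D3 → Nat) (@D3.rec (fun _ => Nat) 1 1 1 1 1 1) (@D3.rec (fun _ => Nat) 1 1 1 1 1 1) (@D3.rec (fun _ => Nat) 1 1 1 1 1 1) (@D3.rec (fun _ => Nat) 1 1 1 1 1 1) (@D3.rec (fun _ => Nat) 1 1 1 1 1 1) (@D3.rec (fun _ => Nat) 1 1 1 1 1 1)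
def lv_d_1 : D2 → D3 → Nat := @D2.rec (fun _ => D3 → Nat) (@D3.rec (fun _ => Nat) 1 1 1 1 1 1) (@D3.rec (fun _ => Nat) 1 1 1 1 1 1) (@D3.rec (fun _ => Nat) 1 1 1 1 1 1) (@D3.rec (fun _ => Nat) 1 1 1 1 1 1) (@D3.rec (fun _ => Nat) 1 1 1 1 1 1) (@D3.rec (fun _ => Nat) 1 1 1 1 1 1)
def lv_d_2 : D2 → D3 → Nat := @D2.rec (fun _ => D3 → Nat) (@D3.rec (fun _ => Nat) 1 1 1 1 1 1) (@D3.rec (fun _ => Nat) 1 1 1 1 1 1) (@D3.rec (fun _ => Nat) 1 1 1 1 1 1) (@D3.rec (fun _ => Nat) 1 1 1 1 1 1) (@D3.rec (fun _ => Nat) 1 1 1 1 1 1) (@D3.rec (fun _ => Nat) 1 1 1 1 1 1)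
def lv_d_3 : D2 → D3 → Nat := @D2.rec (fun _ => D3 → Nat) (@D3.rec (fun _ => Nat) 1 1 1 1 1 1) (@D3.rec (fun _ => Nat) 1 1 1 1 1 1) (@D3.rec (fun _ => Nat) 1 1 1 1 1 1) (@D3.rec (fun _ => Nat) 1 1 1 1 1 1) (@D3.rec (fun _ => Nat) 1 1 1 1 1 1) (@D3.rec (fun _ => Nat) 1 1 1 1 1 1)
def lv_d : Pt → Nat := @Pt.rec (fun _ => Nat) (@D1.rec (fun _ => D2 → D3 → Nat) lv_d_0 lv_d_1 lv_d_2 lv_d_3)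
abbrev lc_d_rc_15_0 : Cert rels S Gen.d := rc_15_0
abbrev lc_d_sc_0_0 : Cert rels S Gen.d := sc_0_0
def ce_d_0 : D2 → D3 → (Cert rels S Gen.d) := @D2.rec (fun _ => D3 → (Cert rels S Gen.d)) (@D3.rec (fun _ => (Cert rels S Gen.d)) lc_d_sc_0_0 lc_d_rc_15_0 lc_d_rc_15_0 lc_d_rc_15_0 lc_d_rc_15_0 lc_d_rc_15_0) (@D3.rec (fun _ => (Cert rels S Gen.d)) lc_d_rc_15_0 lc_d_rc_15_0 lc_d_rc_15_0 lc_d_rc_15_0 lc_d_rc_15_0 lc_d_rc_15_0) (@D3.rec (fun _ => (Cert rels S Gen.d)) lc_d_rc_15_0 lc_d_rc_15_0 lc_d_rc_15_0 lc_d_rc_15_0 lc_d_rc_15_0 lc_d_rc_15_0) (@D3.rec (fun _ => (Cert rels S Gen.d)) lc_d_rc_15_0 lc_d_rc_15_0 lc_d_rc_15_0 lc_d_rc_15_0 lc_d_rc_15_0 lc_d_rc_15_0) (@D3.rec (fun _ => (Cert rels S Gen.d)) lc_d_rc_15_0 lc_d_rc_15_0 lc_d_rc_15_0 lc_d_rc_15_0 lc_d_rc_15_0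 lc_d_rc_15_0) (@D3.rec (fun _ => (Cert rels S Gen.d)) lc_d_rc_15_0 lc_d_rc_15_0 lc_d_rc_15_0 lc_d_rc_15_0 lc_d_rc_15_0 lc_d_rc_15_0)
def ce_d_1 : D2 → D3 → (Cert rels S Gen.d) := @D2.rec (fun _ => D3 → (Cert rels S Gen.d)) (@D3.rec (fun _ => (Cert rels S Gen.d)) lc_d_rc_15_0 lc_d_rc_15_0 lc_d_rc_15_0 lc_d_rc_15_0 lc_d_rc_15_0 lc_d_rc_15_0) (@D3.rec (fun _ => (Cert rels S Gen.d)) lc_d_rc_15_0 lc_d_rc_15_0 lc_d_rc_15_0 lc_d_rc_15_0 lc_d_rc_15_0 lc_d_rc_15_0) (@D3.rec (fun _ => (Cert rels S Gen.d)) lc_d_rc_15_0 lc_d_rc_15_0 lc_d_rc_15_0 lc_d_rc_15_0 lc_d_rc_15_0 lc_d_rc_15_0) (@D3.rec (fun _ => (Cert rels S Gen.d)) lc_d_rc_15_0 lc_d_rc_15_0 lc_d_rc_15_0 lc_d_rc_15_0 lc_d_rc_15_0 lc_d_rc_15_0) (@D3.rec (fun _ => (Cert rels S Gen.d)) lc_d_rc_15_0 lc_d_rc_15_0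 lc_d_rc_15_0 lc_d_rc_15_0 lc_d_rc_15_0 lc_d_rc_15_0) (@D3.rec (fun _ => (Cert rels S Gen.d)) lc_d_rc_15_0 lc_d_rc_15_0 lc_d_rc_15_0 lc_d_rc_15_0 lc_d_rc_15_0 lc_d_rc_15_0)
def ce_d_2 : D2 → D3 → (Cert rels S Gen.d) := @D2.rec (fun _ => D3 → (Cert rels S Gen.d)) (@D3.rec (fun _ => (Cert rels S Gen.d)) lc_d_rc_15_0 lc_d_rc_15_0 lc_d_rc_15_0 lc_d_rc_15_0 lc_d_rc_15_0 lc_d_rc_15_0) (@D3.rec (fun _ => (Cert rels S Gen.d)) lc_d_rc_15_0 lc_d_rc_15_0 lc_d_rc_15_0 lc_d_rc_15_0 lc_d_rc_15_0 lc_d_rc_15_0) (@D3.rec (fun _ => (Cert rels S Gen.d)) lc_d_rc_15_0 lc_d_rc_15_0 lc_d_rc_15_0 lc_d_rc_15_0 lc_d_rc_15_0 lc_d_rc_15_0) (@D3.rec (fun _ => (Cert rels S Gen.d)) lc_d_rc_15_0 lc_d_rc_15_0 lc_d_rc_15_0 lc_d_rc_15_0 lc_d_rc_15_0 lc_d_rc_15_0) (@D3.rec (fun _ => (Cert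 rels S Gen.d)) lc_d_rc_15_0 lc_d_rc_15_0 lc_d_rc_15_0 lc_d_rc_15_0 lc_d_rc_15_0 lc_d_rc_15_0) (@D3.rec (fun _ => (Cert rels S Gen.d)) lc_d_rc_15_0 lc_d_rc_15_0 lc_d_rc_15_0 lc_d_rc_15_0 lc_d_rc_15_0 lc_d_rc_15_0)
def ce_d_3 : D2 → D3 → (Cert rels S Gen.d) := @D2.rec (fun _ => D3 → (Cert rels S Gen.d)) (@D3.rec (fun _ => (Cert rels S Gen.d)) lc_d_rc_15_0 lc_d_rc_15_0 lc_d_rc_15_0 lc_d_rc_15_0 lc_d_rc_15_0 lc_d_rc_15_0) (@D3.rec (fun _ => (Cert rels S Gen.d)) lc_d_rc_15_0 lc_d_rc_15_0 lc_d_rc_15_0 lc_d_rc_15_0 lc_d_rc_15_0 lc_d_rc_15_0) (@D3.rec (fun _ => (Cert rels S Gen.d)) lc_d_rc_15_0 lc_d_rc_15_0 lc_d_rc_15_0 lc_d_rc_15_0 lc_d_rc_15_0 lc_d_rc_15_0) (@D3.rec (fun _ => (Cert rels S Gen.d)) lc_d_rc_15_0 lc_d_rc_15_0 lc_d_rc_15_0 lc_d_rc_15_0 lc_d_rc_15_0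 lc_d_rc_15_0) (@D3.rec (fun _ => (Cert rels S Gen.d)) lc_d_rc_15_0 lc_d_rc_15_0 lc_d_rc_15_0 lc_d_rc_15_0 lc_d_rc_15_0 lc_d_rc_15_0) (@D3.rec (fun _ => (Cert rels S Gen.d)) lc_d_rc_15_0 lc_d_rc_15_0 lc_d_rc_15_0 lc_d_rc_15_0 lc_d_rc_15_0 lc_d_rc_15_0)
def ce_d : Pt → (Cert rels S Gen.d) := @Pt.rec (fun _ => (Cert rels S Gen.d)) (@D1.rec (fun _ => D2 → D3 → (Cert rels S Gen.d)) ce_d_0 ce_d_1 ce_d_2 ce_d_3)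
def isSeed_d (p : Pt) : Bool := false

end

end Cfsg.Agent.Helper28.L37WT
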