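import Cfsg.Agent.Lib.Helper28.L37WT.Tree

set_option autoImplicit false
set_option maxRecDepth 100000
set_option linter.all false

namespace Cfsg.Agent.Helper28.L37WT

open Cfsg.Agent.Helper28
open Cfsg.Agent.Helper28.L37W (Gen)

noncomputable section

def lv_e_0 : D2 → D3 → Nat := @D2.rec (fun _ => D3 → Nat) (@D3.rec (fun _ => Nat) 0 0 0 0 1 0) (@D3.rec (fun _ => Nat) 0 0 1 0 0 0) (@D3.rec (fun _ => Nat) 1 0 0 1 0 0) (@D3.rec (fun _ => Nat) 1 0 0 1 0 0) (@D3.rec (fun _ => Nat) 1 0 0 1 0 1) (@D3.rec (fun _ => Nat) 0 0 1 0 0 1)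
def lv_e_1 : D2 → D3 → Nat := @D2.rec (fun _ => D3 → Nat) (@D3.rec (fun _ => Nat) 0 1 0 0 1 1) (@D3.rec (fun _ => Nat) 0 1 0 0 1 0) (@D3.rec (fun _ => Nat) 0 1 0 1 0 0) (@D3.rec (fun _ => Nat) 1 1 0 1 0 0) (@D3.rec (fun _ => Nat) 1 0 1 0 0 1) (@D3.rec (fun _ => Nat) 1 1 0 0 1 1)
def lv_e_2 : D2 → D3 → Nat := @D2.rec (fun _ => D3 → Nat) (@D3.rec (fun _ => Nat) 0 1 0 0 1 0) (@D3.rec (fun _ => Nat) 1 0 0 1 1 1) (@D3.rec (fun _ => Nat) 0 0 1 1 0 1) (@D3.rec (fun _ => Nat) 0 0 1 1 1 0) (@D3.rec (fun _ => Nat) 0 1 1 0 1 1) (@D3.rec (fun _ => Nat) 0 1 0 0 1 1)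
def lv_e_3 : D2 → D3 → Nat := @D2.rec (fun _ => D3 → Nat) (@D3.rec (fun _ => Nat) 1 0 0 1 1 0) (@D3.rec (fun _ => Nat) 1 1 1 0 0 1) (@D3.rec (fun _ => Nat) 1 0 1 1 1 1) (@D3.rec (fun _ => Nat) 0 0 1 1 0 1) (@D3.rec (fun _ => Nat) 1 1 0 1 1 1) (@D3.rec (fun _ => Nat) 0 1 1 1 1 1)
def lv_e : Pt → Nat := @Pt.rec (fun _ => Nat) (@D1.rec (fun _ => D2 → D3 → Nat) lv_e_0 lv_e_1 lv_e_2 lv_e_3)
abbrev lc_e_Cert_tree : Cert rels S Gen.e := Cert.tree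
abbrev lc_e_rc_12_0 : Cert rels S Gen.e := rc_12_0
def ce_e_0 : D2 → D3 → (Cert rels S Gen.e) := @D2.rec (fun _ => D3 → (Cert rels S Gen.e)) (@D3.rec (fun _ => (Cert rels S Gen.e)) lc_e_Cert_tree lc_e_Cert_tree lc_e_Cert_tree lc_e_Cert_tree lc_e_rc_12_0 lc_e_Cert_tree) (@D3.rec (fun _ => (Cert rels S Gen.e)) lc_e_Cert_tree lc_e_Cert_tree lc_e_rc_12_0 lc_e_Cert_tree lc_e_Cert_tree lc_e_Cert_tree) (@D3.rec (fun _ => (Cert rels S Gen.e)) lc_e_rc_12_0 lc_e_Cert_tree lc_e_Cert_tree lc_e_rc_12_0 lc_e_Cert_tree lc_e_Cert_tree) (@D3.rec (fun _ => (Cert rels S Gen.e)) lc_e_rc_12_0 lc_e_Cert_tree lc_e_Cert_tree lc_e_rc_12_0 lc_e_Cert_tree lc_e_Cert_tree) (@D3.rec (fun _ => (Cert rels S Gen.e)) lc_e_rc_12_0 lc_e_Cert_tree lc_e_Cert_tree lc_e_rc_12_0 lc_e_Cert_tree lc_e_rc_12_0) (@D3.rec (fun _ => (Cert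 rels S Gen.e)) lc_e_Cert_tree lc_e_Cert_tree lc_e_rc_12_0 lc_e_Cert_tree lc_e_Cert_tree lc_e_rc_12_0)
def ce_e_1 : D2 → D3 → (Cert rels S Gen.e) := @D2.rec (fun _ => D3 → (Cert rels S Gen.e)) (@D3.rec (fun _ => (Cert rels S Gen.e)) lc_e_Cert_tree lc_e_rc_12_0 lc_e_Cert_tree lc_e_Cert_tree lc_e_rc_12_0 lc_e_rc_12_0) (@D3.rec (fun _ => (Cert rels S Gen.e)) lc_e_Cert_tree lc_e_rc_12_0 lc_e_Cert_tree lc_e_Cert_tree lc_e_rc_12_0 lc_e_Cert_tree) (@D3.rec (fun _ => (Cert rels S Gen.e)) lc_e_Cert_tree lc_e_rc_12_0 lc_e_Cert_tree lc_e_rc_12_0 lc_e_Cert_tree lc_e_Cert_tree) (@D3.rec (fun _ => (Cert rels S Gen.e)) lc_e_rc_12_0 lc_e_rc_12_0 lc_e_Cert_tree lc_e_rc_12_0 lc_e_Cert_tree lc_e_Cert_tree) (@D3.rec (fun _ => (Cert rels S Gen.e)) lc_e_rc_12_0 lc_e_Cert_tree lc_e_rc_12_0 lc_e_Cert_tree lc_e_Cert_tree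 lc_e_rc_12_0) (@D3.rec (fun _ => (Cert rels S Gen.e)) lc_e_rc_12_0 lc_e_rc_12_0 lc_e_Cert_tree lc_e_Cert_tree lc_e_rc_12_0 lc_e_rc_12_0)
def ce_e_2 : D2 → D3 → (Cert rels S Gen.e) := @D2.rec (fun _ => D3 → (Cert rels S Gen.e)) (@D3.rec (fun _ => (Cert rels S Gen.e)) lc_e_Cert_tree lc_e_rc_12_0 lc_e_Cert_tree lc_e_Cert_tree lc_e_rc_12_0 lc_e_Cert_tree) (@D3.rec (fun _ => (Cert rels S Gen.e)) lc_e_rc_12_0 lc_e_Cert_tree lc_e_Cert_tree lc_e_rc_12_0 lc_e_rc_12_0 lc_e_rc_12_0) (@D3.rec (fun _ => (Cert rels S Gen.e)) lc_e_Cert_tree lc_e_Cert_tree lc_e_rc_12_0 lc_e_rc_12_0 lc_e_Cert_tree lc_e_rc_12_0) (@D3.rec (fun _ => (Cert rels S Gen.e)) lc_e_Cert_tree lc_e_Cert_tree lc_e_rc_12_0 lc_e_rc_12_0 lc_e_rc_12_0 lc_e_Cert_tree) (@D3.rec (fun _ => (Cert rels S Gen.e)) lc_e_Cert_tree lc_e_rc_12_0 lc_e_rc_12_0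 lc_e_Cert_tree lc_e_rc_12_0 lc_e_rc_12_0) (@D3.rec (fun _ => (Cert rels S Gen.e)) lc_e_Cert_tree lc_e_rc_12_0 lc_e_Cert_tree lc_e_Cert_tree lc_e_rc_12_0 lc_e_rc_12_0)
def ce_e_3 : D2 → D3 → (Cert rels S Gen.e) := @D2.rec (fun _ => D3 → (Cert rels S Gen.e)) (@D3.rec (fun _ => (Cert rels S Gen.e)) lc_e_rc_12_0 lc_e_Cert_tree lc_e_Cert_tree lc_e_rc_12_0 lc_e_rc_12_0 lc_e_Cert_tree) (@D3.rec (fun _ => (Cert rels S Gen.e)) lc_e_rc_12_0 lc_e_rc_12_0 lc_e_rc_12_0 lc_e_Cert_tree lc_e_Cert_tree lc_e_rc_12_0) (@D3.rec (fun _ => (Cert rels S Gen.e)) lc_e_rc_12_0 lc_e_Cert_tree lc_e_rc_12_0 lc_e_rc_12_0 lc_e_rc_12_0 lc_e_rc_12_0) (@D3.rec (fun _ => (Cert rels S Gen.e)) lc_e_Cert_tree lc_e_Cert_tree lc_e_rc_12_0 lc_e_rc_12_0 lc_e_Cert_tree lc_e_rc_12_0) (@D3.rec (fun _ => (Cert rels S Gen.e)) lc_e_rc_12_0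 lc_e_rc_12_0 lc_e_Cert_tree lc_e_rc_12_0 lc_e_rc_12_0 lc_e_rc_12_0) (@D3.rec (fun _ => (Cert rels S Gen.e)) lc_e_Cert_tree lc_e_rc_12_0 lc_e_rc_12_0 lc_e_rc_12_0 lc_e_rc_12_0 lc_e_rc_12_0)
def ce_e : Pt → (Cert rels S Gen.e) := @Pt.rec (fun _ => (Cert rels S Gen.e)) (@D1.rec (fun _ => D2 → D3 → (Cert rels S Gen.e)) ce_e_0 ce_e_1 ce_e_2 ce_e_3)
def isSeed_e (p : Pt) : Bool := false

end

end Cfsg.Agent.Helper28.L37WT
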