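import Cfsg.Agent.Lib.Helper28.L37WT.Tree

set_option autoImplicit false
set_option maxRecDepth 100000
set_option linter.all false

namespace Cfsg.Agent.Helper28.L37WT

open Cfsg.Agent.Helper28
open Cfsg.Agent.Helper28.L37W (Gen)

noncomputable section

def lv_f_0 : D2 → D3 → Nat := @D2.rec (fun _ => D3 → Nat) (@D3.rec (fun _ => Nat) 0 0 0 0 0 1) (@D3.rec (fun _ => Nat) 0 0 0 1 0 0) (@D3.rec (fun _ => Nat) 0 1 0 0 1 1) (@D3.rec (fun _ => Nat) 2 0 0 0 1 0) (@D3.rec (fun _ => Nat) 0 1 1 2 0 0) (@D3.rec (fun _ => Nat) 1 0 0 1 1 2)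
def lv_f_1 : D2 → D3 → Nat := @D2.rec (fun _ => D3 → Nat) (@D3.rec (fun _ => Nat) 0 0 1 1 2 2) (@D3.rec (fun _ => Nat) 0 0 1 0 0 1) (@D3.rec (fun _ => Nat) 1 2 0 0 1 1) (@D3.rec (fun _ => Nat) 2 2 0 0 1 1) (@D3.rec (fun _ => Nat) 2 0 0 1 1 2) (@D3.rec (fun _ => Nat) 2 0 1 1 2 2)
def lv_f_2 : D2 → D3 → Nat := @D2.rec (fun _ => D3 → Nat) (@D3.rec (fun _ => Nat) 0 0 1 1 2 0) (@D3.rec (fun _ => Nat) 0 1 1 2 2 0) (@D3.rec (fun _ => Nat) 1 1 2 2 0 0) (@D3.rec (fun _ => Nat) 1 1 2 2 0 1) (@D3.rec (fun _ => Nat) 1 2 2 1 2 2) (@D3.rec (fun _ => Nat) 0 0 1 1 2 2)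
def lv_f_3 : D2 → D3 → Nat := @D2.rec (fun _ => D3 → Nat) (@D3.rec (fun _ => Nat) 0 1 1 2 2 1) (@D3.rec (fun _ => Nat) 2 2 0 1 1 2) (@D3.rec (fun _ => Nat) 2 1 2 2 2 0) (@D3.rec (fun _ => Nat) 1 1 2 2 1 2) (@D3.rec (fun _ => Nat) 2 2 1 2 2 2) (@D3.rec (fun _ => Nat) 1 2 2 2 2 2)
def lv_f : Pt → Nat := @Pt.rec (fun _ => Nat) (@D1.rec (fun _ => D2 → D3 → Nat) lv_f_0 lv_f_1 lv_f_2 lv_f_3)
abbrev lc_f_Cert_tree : Cert rels S Gen.f := Cert.tree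
abbrev lc_f_rc_13_3 : Cert rels S Gen.f := rc_13_3
abbrev lc_f_rc_14_0 : Cert rels S Gen.f := rc_14_0
def ce_f_0 : D2 → D3 → (Cert rels S Gen.f) := @D2.rec (fun _ => D3 → (Cert rels S Gen.f)) (@D3.rec (fun _ => (Cert rels S Gen.f)) lc_f_Cert_tree lc_f_Cert_tree lc_f_Cert_tree lc_f_Cert_tree lc_f_Cert_tree lc_f_rc_14_0) (@D3.rec (fun _ => (Cert rels S Gen.f)) lc_f_Cert_tree lc_f_Cert_tree lc_f_Cert_tree lc_f_rc_14_0 lc_f_Cert_tree lc_f_Cert_tree) (@D3.rec (fun _ => (Cert rels S Gen.f)) lc_f_Cert_tree lc_f_rc_14_0 lc_f_Cert_tree lc_f_Cert_tree lc_f_rc_14_0 lc_f_rc_14_0) (@D3.rec (fun _ => (Cert rels S Gen.f)) lc_f_rc_13_3 lc_f_Cert_tree lc_f_Cert_tree lc_f_Cert_tree lc_f_rc_14_0 lc_f_Cert_tree) (@D3.rec (fun _ => (Cert rels S Gen.f)) lc_f_Cert_tree lc_f_rc_14_0 lc_f_rc_14_0 lc_f_rc_13_3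 lc_f_Cert_tree lc_f_Cert_tree) (@D3.rec (fun _ => (Cert rels S Gen.f)) lc_f_rc_14_0 lc_f_Cert_tree lc_f_Cert_tree lc_f_rc_14_0 lc_f_rc_14_0 lc_f_rc_13_3)
def ce_f_1 : D2 → D3 → (Cert rels S Gen.f) := @D2.rec (fun _ => D3 → (Cert rels S Gen.f)) (@D3.rec (fun _ => (Cert rels S Gen.f)) lc_f_Cert_tree lc_f_Cert_tree lc_f_rc_14_0 lc_f_rc_14_0 lc_f_rc_13_3 lc_f_rc_13_3) (@D3.rec (fun _ => (Cert rels S Gen.f)) lc_f_Cert_tree lc_f_Cert_tree lc_f_rc_14_0 lc_f_Cert_tree lc_f_Cert_tree lc_f_rc_14_0) (@D3.rec (fun _ => (Cert rels S Gen.f)) lc_f_rc_14_0 lc_f_rc_13_3 lc_f_Cert_tree lc_f_Cert_tree lc_f_rc_14_0 lc_f_rc_14_0) (@D3.rec (fun _ => (Cert rels S Gen.f)) lc_f_rc_13_3 lc_f_rc_13_3 lc_f_Cert_tree lc_f_Cert_tree lc_f_rc_14_0 lc_f_rc_14_0) (@D3.rec (fun _ => (Cert rels S Gen.f)) lc_f_rc_13_3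 lc_f_Cert_tree lc_f_Cert_tree lc_f_rc_14_0 lc_f_rc_14_0 lc_f_rc_13_3) (@D3.rec (fun _ => (Cert rels S Gen.f)) lc_f_rc_13_3 lc_f_Cert_tree lc_f_rc_14_0 lc_f_rc_14_0 lc_f_rc_13_3 lc_f_rc_13_3)
def ce_f_2 : D2 → D3 → (Cert rels S Gen.f) := @D2.rec (fun _ => D3 → (Cert rels S Gen.f)) (@D3.rec (fun _ => (Cert rels S Gen.f)) lc_f_Cert_tree lc_f_Cert_tree lc_f_rc_14_0 lc_f_rc_14_0 lc_f_rc_13_3 lc_f_Cert_tree) (@D3.rec (fun _ => (Cert rels S Gen.f)) lc_f_Cert_tree lc_f_rc_14_0 lc_f_rc_14_0 lc_f_rc_13_3 lc_f_rc_13_3 lc_f_Cert_tree) (@D3.rec (fun _ => (Cert rels S Gen.f)) lc_f_rc_14_0 lc_f_rc_14_0 lc_f_rc_13_3 lc_f_rc_13_3 lc_f_Cert_tree lc_f_Cert_tree) (@D3.rec (fun _ => (Cert rels S Gen.f)) lc_f_rc_14_0 lc_f_rc_14_0 lc_f_rc_13_3 lc_f_rc_13_3 lc_f_Cert_tree lc_f_rc_14_0) (@D3.rec (fun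 _ => (Cert rels S Gen.f)) lc_f_rc_14_0 lc_f_rc_13_3 lc_f_rc_13_3 lc_f_rc_14_0 lc_f_rc_13_3 lc_f_rc_13_3) (@D3.rec (fun _ => (Cert rels S Gen.f)) lc_f_Cert_tree lc_f_Cert_tree lc_f_rc_14_0 lc_f_rc_14_0 lc_f_rc_13_3 lc_f_rc_13_3)
def ce_f_3 : D2 → D3 → (Cert rels S Gen.f) := @D2.rec (fun _ => D3 → (Cert rels S Gen.f)) (@D3.rec (fun _ => (Cert rels S Gen.f)) lc_f_Cert_tree lc_f_rc_14_0 lc_f_rc_14_0 lc_f_rc_13_3 lc_f_rc_13_3 lc_f_rc_14_0) (@D3.rec (fun _ => (Cert rels S Gen.f)) lc_f_rc_13_3 lc_f_rc_13_3 lc_f_Cert_tree lc_f_rc_14_0 lc_f_rc_14_0 lc_f_rc_13_3) (@D3.rec (fun _ => (Cert rels S Gen.f)) lc_f_rc_13_3 lc_f_rc_14_0 lc_f_rc_13_3 lc_f_rc_13_3 lc_f_rc_13_3 lc_f_Cert_tree) (@D3.rec (fun _ => (Cert rels S Gen.f)) lc_f_rc_14_0 lc_f_rc_14_0 lc_f_rc_13_3 lc_f_rc_13_3 lc_f_rc_14_0 lc_f_rc_13_3)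 (@D3.rec (fun _ => (Cert rels S Gen.f)) lc_f_rc_13_3 lc_f_rc_13_3 lc_f_rc_14_0 lc_f_rc_13_3 lc_f_rc_13_3 lc_f_rc_13_3) (@D3.rec (fun _ => (Cert rels S Gen.f)) lc_f_rc_14_0 lc_f_rc_13_3 lc_f_rc_13_3 lc_f_rc_13_3 lc_f_rc_13_3 lc_f_rc_13_3)
def ce_f : Pt → (Cert rels S Gen.f) := @Pt.rec (fun _ => (Cert rels S Gen.f)) (@D1.rec (fun _ => D2 → D3 → (Cert rels S Gen.f)) ce_f_0 ce_f_1 ce_f_2 ce_f_3)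
def isSeed_f (p : Pt) : Bool := false

end

end Cfsg.Agent.Helper28.L37WT
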