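import Cfsg.Agent.Lib.Helper28.L37WT.Levels

set_option autoImplicit false
set_option maxRecDepth 100000
set_option linter.all false

namespace Cfsg.Agent.Helper28.L37WT

open Cfsg.Agent.Helper28
open Cfsg.Agent.Helper28.L37W (Gen)

noncomputable section

abbrev sl_at : Gen × Bool := (Gen.a, true)
abbrev sl_af : Gen × Bool := (Gen.a, false)
abbrev sl_bt : Gen × Bool := (Gen.b, true)
abbrev sl_bf : Gen × Bool := (Gen.b, false)
abbrev sl_ct : Gen × Bool := (Gen.c, true)
abbrev sl_cf : Gen × Bool := (Gen.c, false)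
abbrev sl_dt : Gen × Bool := (Gen.d, true)
abbrev sl_df : Gen × Bool := (Gen.d, false)
abbrev sl_et : Gen × Bool := (Gen.e, true)
abbrev sl_ef : Gen × Bool := (Gen.e, false)
abbrev sl_ft : Gen × Bool := (Gen.f, true)
abbrev sl_ff : Gen × Bool := (Gen.f, false)
theorem relone_inv (rels : Set (FreeGroup Gen)) (w : Word Gen) (h : wG rels w = 1) :
    wG rels (FreeGroup.invRev w) = 1 := by
  rw [wG_invRev, h, inv_one]


end

end Cfsg.Agent.Helper28.L37WT
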